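import Mathlib
import Cfsg.Agent.Tits.Generic
import Cfsg.Agent.H996.Deg.RgdEdge
import Cfsg.Agent.H996.Eight.Interval
import Cfsg.Agent.H400.BlockDefect
import Cfsg.Agent.CharactersDeep.ModCongr
import Cfsg.Agent.Blocks.ExistsModular
import Cfsg.Agent.H996.DefectZero
import Cfsg.Agent.H615.DefZeroChar
import Cfsg.Agent.H671.H5Facts
import Cfsg.Agent.Tits.Gate
import Cfsg.Agent.Tits.Exchange
import Cfsg.Agent.PermutationGroups.PermChar
import Cfsg.Agent.Characters.Core
import Cfsg.Agent.Blocks.Basic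
import Cfsg.Prelude.Def_DegreeGraph
import Cfsg.Agent.ChevalleyStructure.CoxeterGeom
import Cfsg.Agent.FastGrp
import Cfsg.Agent.Prune
set_option linter.all false

section
prune_inst 0x7ff0b9f98aadb9dedfff7e37a7dccffdf5a88fffe6dff9cbffe46b9f3bff7b86cbc1fbaf8fe092fe1fd6e21410b87b53ffffffffe86bfc7ffffd5ff41ffbee4ff5f7b508519c98b40f382ffe03f1678e6f3fffffffffffffffffffffffffffbeffbffbfeffff

-- part: H996/Deg/Parity
section
prune_inst 0x14606544046212000018858233000024760000920023000099420c400806134320400701f4d01e0281082af44808000000000150400000000a000c00011900a0808050043210ad0c75001f808182010000000000000000000000000000041004004010000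
set_option linter.all false
open scoped Cfsg.Agent.FastGrp

-- part: H996/Deg/CoxPar
section
/-!
# The number of `⟨s⟩`-`⟨s⟩` double cosets of a Coxeter group with a `B₃` subdiagram is even (helper996)
-/

set_option autoImplicit false
set_option linter.unusedSectionVars false
set_option linter.unusedVariables false

namespace Cfsg.Agent.H996.Deg.CoxPar

universe u

/-- an involution and a fixed point free involution on its fixed points -/
theorem even_card {Q : Type u} [Finite Q] (f g : Q → Q) (hf : ∀ x, f (f x) = x) (hg : ∀ x, g (g x) = x)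
    (hfg : ∀ x, f (g x) = g (f x)) (h : ∀ x, f x = x → g x = x → False) : Even (Nat.card Q) := by
  classical
  have : Fact (Nat.Prime 2) := ⟨Nat.prime_two⟩
  have key : ∀ {α : Type u} [Finite α] (k : α → α), (∀ x, k (k x) = x) →
      Nat.card α ≡ Nat.card {x // k x = x} [MOD 2] := by
    intro α _ k hk
    have := Fintype.ofFinite α
    have h1 : (show Function.End α from k) ^ 2 ^ 1 = 1 := by
      rw [pow_one, pow_two]
      funext x
      exact hk x
    have h2 := Equiv.Perm.card_fixedPoints_modEq (p := 2) (n := 1) h1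
    rw [Nat.card_eq_fintype_card]
    refine h2.trans ?_
    rw [← Nat.card_eq_fintype_card]
    exact Nat.ModEq.refl _
  have h1 := key f hf
  have h2 := key (α := {x // f x = x}) (fun x => ⟨g x, by rw [hfg, x.2]⟩) (fun x => Subtype.ext (hg x))
  have h3 : Nat.card {x : {x // f x = x} // (⟨g x, by rw [hfg, x.2]⟩ : {x // f x = x}) = x} = 0 := by
    rw [Nat.card_eq_zero]
    exact Or.inl ⟨fun x => h x.1 x.1.2 (congrArg Subtype.val x.2)⟩
  replace h2 : Nat.card {x // f x = x} ≡ 0 [MOD 2] := h2.trans (by rw [h3])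
  rw [Nat.even_iff]
  exact h1.trans h2

variable {W : Type u} [Group W]

/-- double cosets of `⟨s⟩` -/
abbrev DC (s : W) : Type u := DoubleCoset.Quotient ((Subgroup.zpowers s : Subgroup W) : Set W) (Subgroup.zpowers s : Set W)

theorem mem_zp {s a : W} (hs : s * s = 1) (ha : a ∈ Subgroup.zpowers s) : a = 1 ∨ a = s := by
  obtain ⟨k, rfl⟩ := Subgroup.mem_zpowers_iff.1 ha
  rcases Int.even_or_odd' k with ⟨m, rfl | rfl⟩
  · left
    rw [zpow_mul, show s ^ (2 : ℤ) = 1 by rw [zpow_two]; exact hs, one_zpow]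
  · right
    rw [zpow_add, zpow_mul, show s ^ (2 : ℤ) = 1 by rw [zpow_two]; exact hs, one_zpow, one_mul, zpow_one]

/-- left multiplication by an element commuting with `s` -/
def lm (s t : W) (c : t * s = s * t) : DC s → DC s :=
  Quotient.map (t * ·) (by
    intro x y hxy
    obtain ⟨a, ha, b, hb, e⟩ := DoubleCoset.rel_iff.1 hxy
    refine DoubleCoset.rel_iff.2 ⟨a, ha, b, hb, ?_⟩
    have h1 : t * a = a * t := by
      obtain ⟨k, rfl⟩ := Subgroup.mem_zpowers_iff.1 ha
      exact (Commute.zpow_right (show Commute t s from c) k).eq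
    show t * y = a * (t * x) * b
    rw [e]
    calc t * (a * x * b) = (t * a) * x * b := by group
      _ = _ := by rw [h1]; group)

theorem even_dc [Finite W] (ε : W →* Multiplicative (ZMod 2)) {s t₁ t₂ : W} (hs : s * s = 1) (h1 : t₁ * t₁ = 1)
    (h2 : t₂ * t₂ = 1) (c1 : t₁ * s = s * t₁) (c2 : t₂ * s = s * t₂) (c12 : t₁ * t₂ = t₂ * t₁) (n1 : t₁ ≠ s)
    (n2 : t₂ ≠ s) (n12 : t₁ ≠ t₂) (es : ε s = Multiplicative.ofAdd 1) (e1 : ε t₁ = Multiplicative.ofAdd 1)
    (e2 : ε t₂ = Multiplicative.ofAdd 1) : Even (Nat.card (DC s)) := by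
  have hfin : Finite (DC s) := Quotient.finite _
  refine even_card (lm s t₁ c1) (lm s t₂ c2) ?_ ?_ ?_ ?_
  · intro x
    induction x using Quotient.inductionOn with
    | _ x =>
      show (Quotient.mk _ (t₁ * (t₁ * x)) : DC s) = Quotient.mk _ x
      rw [← mul_assoc, h1, one_mul]
  · intro x
    induction x using Quotient.inductionOn with
    | _ x =>
      show (Quotient.mk _ (t₂ * (t₂ * x)) : DC s) = Quotient.mk _ x
      rw [← mul_assoc, h2, one_mul]
  · intro x
    induction x using Quotient.inductionOn with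
    | _ x =>
      show (Quotient.mk _ (t₁ * (t₂ * x)) : DC s) = Quotient.mk _ (t₂ * (t₁ * x))
      rw [← mul_assoc, c12, mul_assoc]
  · intro x
    induction x using Quotient.inductionOn with
    | _ w =>
      intro k1 k2
      have key : ∀ t : W, ε t = Multiplicative.ofAdd 1 → t ≠ s →
          (Quotient.mk _ (t * w) : DC s) = Quotient.mk _ w → t = w * s * w⁻¹ := by
        intro t et nt hk
        obtain ⟨a, ha, b, hb, e⟩ := DoubleCoset.rel_iff.1 (Quotient.exact hk)
        have e' : t = a⁻¹ * w * b⁻¹ * w⁻¹ := by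
          calc t = a⁻¹ * (a * (t * w) * b) * b⁻¹ * w⁻¹ := by group
            _ = a⁻¹ * w * b⁻¹ * w⁻¹ := by rw [← e]
        have hε := congrArg ε e'
        rw [map_mul, map_mul, map_mul, map_inv, map_inv, map_inv, et, mul_comm _ (ε w), mul_assoc, mul_assoc,
          mul_comm (ε w), mul_assoc, mul_assoc, inv_mul_cancel, mul_one] at hε
        rcases mem_zp hs ha with ha' | ha' <;> rcases mem_zp hs hb with hb' | hb'
        · exfalso
          rw [ha', hb', map_one ε] at hε
          revert hε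
          decide
        · have hb'' : b⁻¹ = s := by rw [hb']; exact inv_eq_of_mul_eq_one_left hs
          rw [e', hb'', ha']; group
        · exfalso
          apply nt
          have ha'' : a⁻¹ = s := by rw [ha']; exact inv_eq_of_mul_eq_one_left hs
          rw [e', ha'', hb']; group
        · exfalso
          rw [ha', hb', es] at hε
          revert hε
          decide
      exact n12 ((key t₁ e1 n1 k1).trans (key t₂ e2 n2 k2).symm)

open CoxeterSystem

/-- **a `B₃` subdiagram** `a - b = c` -/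
theorem even_of_B3 [Finite W] {I : Type*} [Finite I] {M : CoxeterMatrix I} (cs : CoxeterSystem M W) {a b c : I}
    (hab : M a b = 3) (hbc : M b c = 4) (hac : M a c = 2) : Even (Nat.card (DC (cs.simple c))) := by
  set x := cs.simple a with hx
  set y := cs.simple b with hy
  set s := cs.simple c with hs
  have xx : x * x = 1 := cs.simple_mul_simple_self a
  have yy : y * y = 1 := cs.simple_mul_simple_self b
  have ss : s * s = 1 := cs.simple_mul_simple_self c
  have xi : x⁻¹ = x := inv_eq_of_mul_eq_one_left xx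
  have yi : y⁻¹ = y := inv_eq_of_mul_eq_one_left yy
  have si : s⁻¹ = s := inv_eq_of_mul_eq_one_left ss
  have h3 : (x * y) ^ 3 = 1 := by rw [← hab]; exact cs.simple_mul_simple_pow a b
  have h4 : (y * s) ^ 4 = 1 := by rw [← hbc]; exact cs.simple_mul_simple_pow b c
  have h2 : (x * s) ^ 2 = 1 := by rw [← hac]; exact cs.simple_mul_simple_pow a c
  have xs : x * s = s * x := by
    have : x * s = (x * s)⁻¹ := by rw [eq_inv_iff_mul_eq_one, ← pow_two, h2]
    rw [this, mul_inv_rev, xi, si]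
  have xyx : x * y * x = y * x * y := by
    have h5 : x * y * x = (y * x * y)⁻¹ := by
      rw [eq_inv_iff_mul_eq_one]
      calc x * y * x * (y * x * y) = (x * y) ^ 3 := by rw [pow_succ, pow_two]; group
        _ = 1 := h3
    rw [h5, mul_inv_rev, mul_inv_rev, xi, yi, mul_assoc]
  have ysys : y * s * y * s = s * y * s * y := by
    have h5 : y * s * y * s = (y * s * y * s)⁻¹ := by
      rw [eq_inv_iff_mul_eq_one]
      calc y * s * y * s * (y * s * y * s) = (y * s) ^ 4 := by
            rw [show (4 : ℕ) = 2 + 2 by norm_num, pow_add, pow_two]; group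
        _ = 1 := h4
    conv_lhs => rw [h5]
    rw [mul_inv_rev, mul_inv_rev, mul_inv_rev, si, yi]
    group
  set t₂ := y * s * y with ht₂
  set t₁ := x * t₂ * x with ht₁
  have c2 : t₂ * s = s * t₂ := by rw [ht₂, ysys]; group
  have hns : t₂ ≠ s := by
    intro h
    have h5 : (y * s) ^ 2 = 1 := by
      rw [pow_two, show y * s * (y * s) = (y * s * y) * s by group, ← ht₂, h, ss]
    have h6 : orderOf (y * s) = 4 := by rw [← hbc]; exact Tits.Generic.orderOf_eq cs b c
    have h7 := orderOf_dvd_of_pow_eq_one h5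
    rw [h6] at h7
    exact absurd h7 (by norm_num)
  have c1 : t₁ * s = s * t₁ := by
    calc t₁ * s = x * t₂ * (x * s) := by rw [ht₁]; group
      _ = x * (t₂ * s) * x := by rw [xs]; group
      _ = (x * s) * t₂ * x := by rw [c2]; group
      _ = s * t₁ := by rw [xs, ht₁]; group
  -- `y` commutes with `t₁`
  have cy : y * t₁ = t₁ * y := by
    have e1 : y * t₁ * y = t₁ := by
      calc y * t₁ * y = (y * x * y) * s * (y * x * y) := by rw [ht₁, ht₂]; group
        _ = (x * y * x) * s * (x * y * x) := by rw [xyx]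
        _ = x * y * (x * s) * x * y * x := by group
        _ = x * y * s * (x * x) * y * x := by rw [xs]; group
        _ = t₁ := by rw [xx, ht₁, ht₂]; group
    calc y * t₁ = (y * t₁ * y) * y := by rw [mul_assoc, mul_assoc, yy, mul_one]
      _ = t₁ * y := by rw [e1]
  have c12 : t₁ * t₂ = t₂ * t₁ := by
    calc t₁ * t₂ = (t₁ * y) * s * y := by rw [ht₂]; group
      _ = y * (t₁ * s) * y := by rw [← cy]; group
      _ = y * s * (t₁ * y) := by rw [c1]; group
      _ = t₂ * t₁ := by rw [← cy, ht₂]; group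
  have n12 : t₁ ≠ t₂ := by
    intro h
    have e1 : y * t₁ * y = s := by
      rw [h, ht₂]
      calc y * (y * s * y) * y = (y * y) * s * (y * y) := by group
        _ = s := by rw [yy]; group
    have e2 : t₁ = s := by
      rw [← e1, cy, mul_assoc, yy, mul_one]
    exact hns (h.symm.trans e2)
  have n1 : t₁ ≠ s := by
    intro h
    apply hns
    have e1 : x * t₁ * x = t₂ := by
      rw [ht₁]
      calc x * (x * t₂ * x) * x = (x * x) * t₂ * (x * x) := by group
        _ = t₂ := by rw [xx]; group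
    rw [← e1, h, xs, mul_assoc, xx, mul_one]
  have e0 : ∀ i, cs.lengthParity (cs.simple i) = Multiplicative.ofAdd 1 := fun i => cs.lengthParity_simple i
  have e2 : cs.lengthParity t₂ = Multiplicative.ofAdd 1 := by
    rw [ht₂, map_mul, map_mul, hy, hs, e0, e0]
    decide
  have e1 : cs.lengthParity t₁ = Multiplicative.ofAdd 1 := by
    rw [ht₁, map_mul, map_mul, e2, hx, e0]
    decide
  refine even_dc cs.lengthParity ss ?_ ?_ c1 c2 c12 n1 hns n12 (e0 c) e1 e2
  · rw [ht₁, ht₂]
    calc x * (y * s * y) * x * (x * (y * s * y) * x) = x * y * s * y * (x * x) * y * s * y * x := by group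
      _ = x * y * s * (y * y) * s * y * x := by rw [xx]; group
      _ = x * y * (s * s) * y * x := by rw [yy]; group
      _ = x * (y * y) * x := by rw [ss]; group
      _ = 1 := by rw [yy, mul_one, xx]
  · rw [ht₂]
    calc y * s * y * (y * s * y) = y * s * (y * y) * s * y := by group
      _ = y * (s * s) * y := by rw [yy]; group
      _ = 1 := by rw [ss, mul_one, yy]

end Cfsg.Agent.H996.Deg.CoxPar
end

-- part: H996/Deg/Parity
section
/-!
# The norm of `1_P^G`, `P` a minimal parabolic subgroup; a parity argument (helper996)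
-/

set_option autoImplicit false
set_option linter.unusedSectionVars false
set_option linter.unusedVariables false

namespace Cfsg.Agent.H996.Deg.Bd

open Module Cfsg Cfsg.Agent.Tits.Core Cfsg.Agent.Tits.Core.Bldg Cfsg.Agent.H249 MulAction
  Cfsg.Agent.H464.PermIrr Cfsg.Agent.H996.Deg.CoxPar Cfsg.Agent.Characters.Core

universe u v

variable {I : Type*} [DecidableEq I] [Fintype I] {W : Type v} {Y : Type u} {C : Type*} [Group W] [Group Y] {M : CoxeterMatrix I}
  {cs : CoxeterSystem M W} {p : ℕ} [MulAction Y C] {D : Dat Y I p} {Δ : Bldg cs C} {c : C}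

/-- the class of a distance -/
def cls (cs : CoxeterSystem M W) (i : I) (w : W) : DC (cs.simple i) := Quotient.mk _ w

theorem cls_eq {i : I} {w w' : W} : cls cs i w = cls cs i w' ↔
    ∃ a ∈ Subgroup.zpowers (cs.simple i), ∃ b ∈ Subgroup.zpowers (cs.simple i), w' = a * w * b :=
  ⟨fun h => DoubleCoset.rel_iff.1 (Quotient.exact h), fun h => Quotient.sound (DoubleCoset.rel_iff.2 h)⟩

theorem cls_mul {i : I} (w : W) : cls cs i (w * cs.simple i) = cls cs i w :=
  cls_eq.2 ⟨1, one_mem _, cs.simple i, Subgroup.mem_zpowers _, by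
    rw [one_mul, mul_assoc, cs.simple_mul_simple_self, mul_one]⟩

theorem cls_mul' {i : I} (w : W) : cls cs i (cs.simple i * w) = cls cs i w :=
  cls_eq.2 ⟨cs.simple i, Subgroup.mem_zpowers _, 1, one_mem _, by
    rw [mul_one, ← mul_assoc, cs.simple_mul_simple_self, one_mul]⟩

theorem dr {i : I} {x y y' : C} (h : Δ.δ y y' = 1 ∨ Δ.δ y y' = cs.simple i) :
    cls cs i (Δ.δ x y') = cls cs i (Δ.δ x y) := by
  rcases h with h | h
  · rw [(Δ.eq_one y y').1 h]
  · rcases Δ.step x y y' i h with h1 | h1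
    · rw [h1, cls_mul]
    · rw [h1]

theorem dl {i : I} {x x' y : C} (h : Δ.δ x x' = 1 ∨ Δ.δ x x' = cs.simple i) :
    cls cs i (Δ.δ x' y) = cls cs i (Δ.δ x y) := by
  rcases h with h | h
  · rw [(Δ.eq_one x x').1 h]
  · rw [Δ.symm y x', Δ.symm y x]
    rcases Δ.step y x x' i h with h1 | h1
    · rw [h1, mul_inv_rev, cs.inv_simple, cls_mul']
    · rw [h1]

variable (S : Bd D Δ c)
include S

theorem δ_mul (a g : Y) : Δ.δ (a • c) ((a * g) • c) = Δ.δ c (g • c) := by
  rw [mul_smul, S.iso]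

/-- invariant of a pair of cosets of `P_i` -/
noncomputable def inv₂ (S : Bd D Δ c) (i : I) (z : (Y ⧸ D.P i) × (Y ⧸ D.P i)) : DC (cs.simple i) :=
  cls cs i (Δ.δ (z.1.out • c) (z.2.out • c))

theorem inv₂_mk (i : I) (a b : Y) :
    S.inv₂ i ((a : Y ⧸ D.P i), (b : Y ⧸ D.P i)) = cls cs i (Δ.δ (a • c) (b • c)) := by
  have h : ∀ a : Y, ∃ g ∈ D.P i, ((a : Y ⧸ D.P i)).out = a * g := by
    intro a
    refine ⟨a⁻¹ * ((a : Y ⧸ D.P i)).out, ?_, by group⟩
    rw [← QuotientGroup.eq, QuotientGroup.out_eq']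
  obtain ⟨g, hg, e1⟩ := h a
  obtain ⟨k, hk, e2⟩ := h b
  show cls cs i (Δ.δ (((a : Y ⧸ D.P i)).out • c) (((b : Y ⧸ D.P i)).out • c)) = _
  rw [e1, e2]
  rw [dl (x := a • c) (by rw [S.δ_mul]; exact S.P_stab hg), dr (y := b • c) (by rw [S.δ_mul]; exact S.P_stab hk)]

theorem card_orbits (i : I) :
    Nat.card (orbitRel.Quotient Y ((Y ⧸ D.P i) × (Y ⧸ D.P i))) = Nat.card (DC (cs.simple i)) := by
  have hinv : ∀ (g : Y) z, S.inv₂ i (g • z) = S.inv₂ i z := by
    rintro g ⟨x, y⟩
    induction x using QuotientGroup.induction_on with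
    | _ a =>
    induction y using QuotientGroup.induction_on with
    | _ b =>
    show S.inv₂ i (((g * a : Y) : Y ⧸ D.P i), ((g * b : Y) : Y ⧸ D.P i)) = _
    rw [S.inv₂_mk, S.inv₂_mk, mul_smul, mul_smul, S.iso]
  refine Nat.card_eq_of_bijective (Quotient.lift (s := orbitRel Y _) (S.inv₂ i) (by
    rintro a b ⟨g, rfl⟩
    exact hinv g b)) ⟨?_, ?_⟩
  · intro q q'
    induction q using Quotient.inductionOn with | _ z => ?_
    induction q' using Quotient.inductionOn with | _ z' => ?_
    intro h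
    replace h : S.inv₂ i z = S.inv₂ i z' := h
    obtain ⟨x, y⟩ := z
    obtain ⟨x', y'⟩ := z'
    induction x using QuotientGroup.induction_on with
    | _ a =>
    induction y using QuotientGroup.induction_on with
    | _ b =>
    induction x' using QuotientGroup.induction_on with
    | _ a' =>
    induction y' using QuotientGroup.induction_on with
    | _ b' =>
    rw [S.inv₂_mk, S.inv₂_mk, cls_eq] at h
    obtain ⟨u, hu, v, hv, e⟩ := h
    have ss := cs.simple_mul_simple_self i
    -- move `b`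
    obtain ⟨k, hk, h1⟩ : ∃ k ∈ D.P i, Δ.δ (a • c) ((b * k) • c) = Δ.δ (a • c) (b • c) * v := by
      rcases mem_zp ss hv with rfl | hv'
      · exact ⟨1, one_mem _, by rw [mul_one, mul_one]⟩
      · obtain ⟨z, hz, hz'⟩ := Δ.exists_step (a • c) (b • c) i
        obtain ⟨g, rfl⟩ := S.trans z
        refine ⟨b⁻¹ * g, S.mem_P_of ?_, ?_⟩
        · rw [← hz, ← S.iso b, ← mul_smul, mul_inv_cancel_left]
        · rw [mul_inv_cancel_left, hz', hv']
    obtain ⟨l, hl, h2⟩ : ∃ l ∈ D.P i, Δ.δ ((a * l) • c) ((b * k) • c) = u * Δ.δ (a • c) ((b * k) • c) := by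
      rcases mem_zp ss hu with rfl | hu'
      · exact ⟨1, one_mem _, by rw [mul_one, one_mul]⟩
      · obtain ⟨z, hz, hz'⟩ := Δ.exists_step ((b * k) • c) (a • c) i
        obtain ⟨g, rfl⟩ := S.trans z
        refine ⟨a⁻¹ * g, S.mem_P_of ?_, ?_⟩
        · rw [← hz, ← S.iso a, ← mul_smul, mul_inv_cancel_left]
        · rw [mul_inv_cancel_left, Δ.symm ((b * k) • c), hz', mul_inv_rev, cs.inv_simple, ← Δ.symm, hu']
    have h3 : Δ.δ ((a * l) • c) ((b * k) • c) = Δ.δ (a' • c) (b' • c) := by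
      rw [h2, h1, e, mul_assoc]
    obtain ⟨g, hg1, hg2⟩ := S.tr _ _ _ _ h3.symm
    apply Quotient.sound
    refine ⟨g, ?_⟩
    have h4 : ∀ {α β m : Y}, m ∈ D.P i → g • β • c = (α * m) • c → ((g * β : Y) : Y ⧸ D.P i) = (α : Y ⧸ D.P i) := by
      intro α β m hm h5
      rw [eq_comm, QuotientGroup.eq]
      have h6 : (α * m)⁻¹ * (g * β) ∈ D.B := by
        rw [S.B, mul_smul, mul_smul, h5, ← mul_smul, inv_mul_cancel, one_smul]
      have h7 := mul_mem hm (D.B_le_P i h6)
      have e7 : m * ((α * m)⁻¹ * (g * β)) = α⁻¹ * (g * β) := by group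
      rwa [e7] at h7
    exact Prod.ext (h4 hl hg1) (h4 hk hg2)
  · intro q
    induction q using Quotient.inductionOn with | _ w => ?_
    obtain ⟨y, hy⟩ := Δ.exists_δ c w
    obtain ⟨g, rfl⟩ := S.trans y
    refine ⟨Quotient.mk _ (((1 : Y) : Y ⧸ D.P i), ((g : Y) : Y ⧸ D.P i)), ?_⟩
    show S.inv₂ i (((1 : Y) : Y ⧸ D.P i), ((g : Y) : Y ⧸ D.P i)) = _
    rw [S.inv₂_mk, one_smul, hy]
    rfl

end Cfsg.Agent.H996.Deg.Bd

namespace Cfsg.Agent.H996.Deg.Parity

open Module Cfsg MulAction Cfsg.Agent.H464.PermIrr Cfsg.Agent.Characters.Core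

/-- **Parity**: a transitive permutation character of odd degree and even rank has a constituent of even degree. -/
theorem exists_even {G : Type*} [Group G] [Fintype G] (X : Type*) [MulAction G X] [Finite X]
    (hodd : ¬ 2 ∣ Nat.card X) (hev : Even (Nat.card (orbitRel.Quotient G (X × X)))) :
    ∃ χ : IrrCharacter G, classInner (pc G X) (χ : G → ℂ) ≠ 0 ∧ 2 ∣ charDegree (χ : G → ℂ) := by
  classical
  have := finite_irr (G := G)
  have := Fintype.ofFinite (IrrCharacter G)
  obtain ⟨m, hm⟩ := exists_nat_comb (isCharacter_pc G X)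
  have hmi : ∀ ψ : IrrCharacter G, classInner (pc G X) (ψ : G → ℂ) = m ψ := fun ψ => by
    rw [hm, classInner_sum_nsmul_irr]
  by_contra hcon
  push Not at hcon
  have h1 : (Nat.card X : ℂ) = ∑ ψ, (m ψ : ℂ) * charDegree (ψ : G → ℂ) := by
    rw [← pc_one (G := G) X, hm, Finset.sum_apply]
    refine Finset.sum_congr rfl fun ψ _ => ?_
    rw [Pi.smul_apply, nsmul_eq_mul, Blocks.Basic.irr_one_eq_charDegree ψ.2]
  have h1' : Nat.card X = ∑ ψ, m ψ * charDegree (ψ : G → ℂ) := by exact_mod_cast h1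
  have h2 : (Nat.card (orbitRel.Quotient G (X × X)) : ℂ) = ∑ ψ, (m ψ : ℂ) * m ψ := by
    rw [← classInner_pc G X X]
    have e : pc G X = ∑ ψ : IrrCharacter G, (m ψ : ℂ) • (ψ : G → ℂ) := by
      rw [hm]
      simp only [Nat.cast_smul_eq_nsmul]
    rw [e, classInner_sum_smul_sum_smul]
    refine Finset.sum_congr rfl fun ψ _ => ?_
    rw [Complex.conj_natCast]
  have h2' : Nat.card (orbitRel.Quotient G (X × X)) = ∑ ψ, m ψ * m ψ := by exact_mod_cast h2
  apply hodd
  have h3 : (Nat.card X : ZMod 2) = (Nat.card (orbitRel.Quotient G (X × X)) : ZMod 2) := by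
    rw [h1', h2']
    push_cast
    refine Finset.sum_congr rfl fun ψ _ => ?_
    rcases Nat.eq_zero_or_pos (m ψ) with h0 | h0
    · rw [h0, Nat.cast_zero, zero_mul, zero_mul]
    · have h4 := hcon ψ (by rw [hmi]; exact_mod_cast h0.ne')
      have h5 : (charDegree (ψ : G → ℂ) : ZMod 2) = 1 := by
        obtain ⟨k, hk⟩ : Odd (charDegree (ψ : G → ℂ)) := by
          rw [← Nat.not_even_iff_odd, even_iff_two_dvd]
          exact h4
        rw [hk]
        push_cast
        rw [show (2 : ZMod 2) = 0 from rfl, zero_mul, zero_add]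
      have h6 : ∀ x : ZMod 2, x * x = x := by decide
      rw [h5, mul_one, h6]
  rw [(ZMod.natCast_eq_zero_iff _ 2).2 (even_iff_two_dvd.1 hev)] at h3
  exact (ZMod.natCast_eq_zero_iff _ 2).1 h3

end Cfsg.Agent.H996.Deg.Parity
end
end

-- part: H996/Deg/Asm
section
prune_inst 0xc4602204006200000018808201002004420000000043000009400c00000212024001060084000c001008004400000000000000300000000000000400011900800080100430400000000016000082000000000000000000000000000000041004000000000
set_option linter.all false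
open scoped Cfsg.Agent.FastGrp

-- part: H996/Deg/PPow
section
/-!
# Characters of `p`-power degree, characters of `p`-defect zero and parabolic subgroups (helper996)

* `not_dvd_of_ppow` : in a simple group whose `p`-local subgroups have characteristic `p` a nonprincipal irreducible
  character of `p`-power degree has `p`-defect zero;
* `no_fixed` : a representation of `p`-defect zero has no nonzero vector fixed by a subgroup `P ≥ U` meeting the
  `(B,N)`-condition (`P > B`).
-/

set_option autoImplicit false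
set_option linter.unusedSectionVars false
set_option linter.unusedVariables false

namespace Cfsg.Agent.H996.Deg.PPow

open Cfsg Cfsg.Agent.Blocks.LocalRing Cfsg.Agent.H996.DefectZero

universe u v

section ppow

variable {G : Type u} [Group G] [Finite G] {p : ℕ} [Fact p.Prime]

/-- a central element of order a power of `p` of a Sylow subgroup -/
theorem exists_central (hp : p ∣ Nat.card G) :
    ∃ z : G, z ≠ 1 ∧ (∃ k, orderOf z = p ^ k) ∧ ¬ p ∣ (Subgroup.centralizer ({z} : Set G)).index := by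
  obtain ⟨P⟩ : Nonempty (Sylow p G) := inferInstance
  have hne : (P : Subgroup G) ≠ ⊥ := by
    intro h
    have h1 := P.dvd_card_of_dvd_card hp
    rw [h, Subgroup.card_bot] at h1
    exact (Fact.out : p.Prime).one_lt.ne' (Nat.dvd_one.1 h1)
  have : Nontrivial ↥(P : Subgroup G) := (Subgroup.nontrivial_iff_ne_bot _).2 hne
  have h2 : Nontrivial (Subgroup.center ↥(P : Subgroup G)) := P.isPGroup'.center_nontrivial
  obtain ⟨z, hz⟩ := exists_ne (1 : Subgroup.center ↥(P : Subgroup G))
  refine ⟨((z : ↥(P : Subgroup G)) : G), ?_, ?_, ?_⟩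
  · intro h
    exact hz (Subtype.ext (Subtype.ext h))
  · obtain ⟨k, hk⟩ := P.isPGroup' (z : ↥(P : Subgroup G))
    have h3 : ((z : ↥(P : Subgroup G)) : G) ^ p ^ k = 1 := by
      have := congrArg Subtype.val hk
      simpa using this
    obtain ⟨j, -, hj⟩ := (Nat.dvd_prime_pow (Fact.out : p.Prime)).1 (orderOf_dvd_of_pow_eq_one h3)
    exact ⟨j, hj⟩
  · intro h
    have h3 : (P : Subgroup G) ≤ Subgroup.centralizer ({((z : ↥(P : Subgroup G)) : G)} : Set G) := by
      intro u hu
      rw [Subgroup.mem_centralizer_singleton_iff]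
      have := Subgroup.mem_center_iff.1 z.2 ⟨u, hu⟩
      exact congrArg Subtype.val this
    exact P.not_dvd_index (h.trans (Subgroup.index_dvd_of_le h3))

theorem not_dvd_of_ppow [IsSimpleGroup G] (hnc : ¬ IsMulCommutative G)
    (hloc : ∀ K : Subgroup G, IsPGroup p K → K ≠ ⊥ →
      Subgroup.centralizer (pCore p ↥(Subgroup.normalizer (K : Set G)) : Set ↥(Subgroup.normalizer (K : Set G))) ≤
        pCore p ↥(Subgroup.normalizer (K : Set G)))
    (χ : IrrCharacter G) (h1 : p ∣ charDegree (χ : G → ℂ)) (hpp : ∀ l, l.Prime → l ∣ charDegree (χ : G → ℂ) → l = p) :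
    ¬ p ∣ Nat.card G / charDegree (χ : G → ℂ) := by
  have hp : p.Prime := Fact.out
  obtain ⟨hd1, hd2, hd3⟩ := S0914.degree_spec χ
  have hpG : p ∣ Nat.card G := h1.trans hd3
  obtain ⟨z, hz1, hzo, hcls⟩ := exists_central hpG
  -- `χ(z) = 0`
  have hχz : (χ : G → ℂ) z = 0 := by
    obtain ⟨n, ρ, hρ, e⟩ := χ.2
    have hfr : Module.finrank ℂ (Fin n → ℂ) = charDegree (χ : G → ℂ) := by
      have h3 : (χ : G → ℂ) 1 = (Module.finrank ℂ (Fin n → ℂ) : ℂ) := by
        rw [← e]
        exact ρ.char_one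
      have h4 : charDegree (χ : G → ℂ) = Module.finrank ℂ (Fin n → ℂ) := H670.PSing.charDegree_eq_of h3
      exact h4.symm
    have hcop : Nat.Coprime (Module.finrank ℂ (Fin n → ℂ)) (Subgroup.centralizer ({z} : Set G)).index := by
      rw [hfr]
      refine Nat.Coprime.symm (Nat.coprime_of_dvd fun l hl h2 h3 => ?_)
      rw [hpp l hl h3] at h2
      exact hcls h2
    have : ρ.IsIrreducible := hρ
    rcases S0142.result ρ z hcop with h | h
    · rw [← e]; exact h
    · exfalso
      have h3 := trivial_of_norm hnc hz1 ρ h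
      have h4 : (charDegree (χ : G → ℂ) : ℂ) = 1 := by
        rw [← hfr, ← ρ.char_one, h3]
      have h5 : charDegree (χ : G → ℂ) = 1 := by exact_mod_cast h4
      rw [h5] at h1
      exact hp.one_lt.ne' (Nat.dvd_one.1 h1)
  obtain ⟨M, hM⟩ := Blocks.ExistsModular.exists_isPModular hp
  set B := blockOf M (χ : G → ℂ) with hB
  have hBB : IsPBlock M B := ⟨χ, rfl⟩
  have hχB : χ ∈ B := fun g => by
    rw [sub_self]; exact memLocalIdeal_zero hM
  have hle : sInf ((fun χ : IrrCharacter G => (charDegree (χ : G → ℂ)).factorization p) '' B) ≤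
      (charDegree (χ : G → ℂ)).factorization p := Nat.sInf_le ⟨χ, hχB, rfl⟩
  have hfle : (charDegree (χ : G → ℂ)).factorization p ≤ (Nat.card G).factorization p :=
    (Nat.factorization_le_iff_dvd (by omega) Nat.card_pos.ne').2 hd3 p
  rcases H400.BlockDefect.defect_of_local hloc hM hBB with h | h
  · -- defect zero
    rw [blockDefect] at h
    have h3 : (Nat.card G).factorization p ≤ (charDegree (χ : G → ℂ)).factorization p := by omega
    intro h4
    obtain ⟨c, hc⟩ := hd3
    rw [hc, Nat.mul_div_cancel_left _ (by omega)] at h4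
    have h5 : p ^ ((Nat.card G).factorization p + 1) ∣ Nat.card G := by
      have h6 : p ^ (Nat.card G).factorization p ∣ charDegree (χ : G → ℂ) :=
        (pow_dvd_pow p h3).trans (Nat.ordProj_dvd _ _)
      rw [pow_succ]
      conv_rhs => rw [hc]
      exact mul_dvd_mul h6 h4
    exact Nat.pow_succ_factorization_not_dvd Nat.card_pos.ne' hp h5
  · -- full defect
    exfalso
    rw [blockDefect] at h
    have h0 : 0 < (Nat.card G).factorization p := hp.factorization_pos_of_dvd Nat.card_pos.ne' hpG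
    have h3 : sInf ((fun χ : IrrCharacter G => (charDegree (χ : G → ℂ)).factorization p) '' B) = 0 := by omega
    have hne : ((fun χ : IrrCharacter G => (charDegree (χ : G → ℂ)).factorization p) '' B).Nonempty :=
      ⟨_, χ, hχB, rfl⟩
    obtain ⟨ψ, hψ, h4⟩ := Nat.sInf_mem hne
    rw [h3] at h4
    obtain ⟨hψ1, hψ2, hψ3⟩ := S0914.degree_spec ψ
    have h5 : ¬ p ∣ charDegree (ψ : G → ℂ) := by
      intro h6
      have := hp.factorization_pos_of_dvd (by omega) h6
      have h7 : (charDegree (ψ : G → ℂ)).factorization p = 0 := h4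
      omega
    have h6 : MemLocalIdeal M (centralChar (χ : G → ℂ) z - centralChar (ψ : G → ℂ) z) := hψ z
    have h7 : centralChar (χ : G → ℂ) z = 0 := by
      rw [centralChar, hχz, mul_zero, zero_div]
    rw [h7, zero_sub, memLocalIdeal_neg_iff] at h6
    -- `ψ(z) ≡ ψ(1)`
    have h8 : MemLocalIdeal M ((ψ : G → ℂ) z - (ψ : G → ℂ) 1) := by
      have h9 := CharactersDeep.ModCongr.memLocalIdeal_character_sub hM ψ.2 z z
        ⟨1, mul_one z, Commute.one_right z, hzo, by
          rw [orderOf_one]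
          exact hp.one_lt.not_ge ∘ Nat.le_of_dvd one_pos⟩
      rwa [inv_mul_cancel] at h9
    have h10 : (ψ : G → ℂ) z = (ψ : G → ℂ) z - (ψ : G → ℂ) 1 + (charDegree (ψ : G → ℂ) : ℂ) := by
      rw [← hψ1]; ring
    have h11 : ¬ MemLocalIdeal M ((ψ : G → ℂ) z) := by
      intro h12
      have h13 : MemLocalIdeal M ((charDegree (ψ : G → ℂ) : ℕ) : ℂ) := by
        have h14 := memLocalIdeal_sub hM h12 h8
        have e : (ψ : G → ℂ) z - ((ψ : G → ℂ) z - (ψ : G → ℂ) 1) = ((charDegree (ψ : G → ℂ) : ℕ) : ℂ) := by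
          rw [← hψ1]; ring
        rwa [e] at h14
      exact h5 ((memLocalIdeal_natCast_iff hM _).1 h13)
    have h15 : MemLocalRing M ((ψ : G → ℂ) z) :=
      memLocalRing_of_isIntegral hM (Blocks.Central.isIntegral_irr ψ.2 z)
    have h16 : MemLocalIdeal M (((Subgroup.centralizer ({z} : Set G)).index : ℂ) * (ψ : G → ℂ) z) := by
      have h17 := memLocalIdeal_mul_right hM h6 (memLocalRing_natCast hM (charDegree (ψ : G → ℂ)))
      have e : centralChar (ψ : G → ℂ) z * ((charDegree (ψ : G → ℂ) : ℕ) : ℂ) =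
          ((Subgroup.centralizer ({z} : Set G)).index : ℂ) * (ψ : G → ℂ) z := by
        rw [centralChar, ← hψ1, div_mul_cancel₀]
        exact Blocks.Basic.irr_one_ne_zero ψ.2
      rwa [e] at h17
    rcases (memLocalIdeal_mul_iff hM (memLocalRing_natCast hM _) h15).1 h16 with h17 | h17
    · exact hcls ((memLocalIdeal_natCast_iff hM _).1 h17)
    · exact h11 h17

end ppow

section fixed

variable {G : Type u} [Group G] [Finite G] {p : ℕ} [Fact p.Prime] {V : Type v} [AddCommGroup V] [Module ℂ V]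
  [FiniteDimensional ℂ V]

/-- **`p`-defect zero: no vectors fixed by a proper overgroup of `B`** -/
theorem no_fixed (ρ : Representation ℂ G V) (hρ : ρ.IsIrreducible)
    (hd : ¬ p ∣ Nat.card G / Module.finrank ℂ V) (U T : Subgroup G) (hU : IsPGroup p U)
    (hT : ∀ t ∈ T, ∀ u ∈ U, t⁻¹ * u * t ∈ U) (hTc : ∀ s ∈ T, ∀ t ∈ T, s * t = t * s) (n₀ : G)
    (hcell : ∀ g : G, (∃ u ∈ U, ∃ t ∈ T, ∃ u' ∈ U, g = u * n₀ * t * u') ∨ ∃ z ∈ U, z ≠ 1 ∧ g⁻¹ * z * g ∈ U)
    (P : Subgroup G) (hUP : U ≤ P) {m : G} (hm : m ∈ P)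
    (hz : ∃ z ∈ U, z ≠ 1 ∧ (n₀ * m⁻¹)⁻¹ * z * (n₀ * m⁻¹) ∈ U) {w : V} (hw : ∀ g ∈ P, ρ g w = w) : w = 0 := by
  classical
  have hp : p.Prime := Fact.out
  have : Fintype G := Fintype.ofFinite G
  by_contra hw0
  obtain ⟨M, hM⟩ := Blocks.ExistsModular.exists_isPModular hp
  -- the character
  set χ : IrrCharacter G := ⟨ρ.character, PermutationGroups.PermChar.isIrr_of_rep ρ hρ⟩ with hχ
  obtain ⟨hd1, hd2, hd3⟩ := S0914.degree_spec χ
  have hfr : charDegree (χ : G → ℂ) = Module.finrank ℂ V := H670.PSing.charDegree_eq_of ρ.char_one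
  have hNN : H615.DefZeroChar.NN χ = Nat.card G / Module.finrank ℂ V := by
    rw [H615.DefZeroChar.NN, hfr]
  rw [← hNN] at hd
  have hBχ : blockOf M (χ : G → ℂ) = {χ} := (S0914.result p M hM χ).1 hd
  obtain ⟨g, -, hg, -⟩ := S0906.result p M hM {χ} ⟨χ, hBχ.symm⟩
  have hNN0 : (H615.DefZeroChar.NN χ : ℂ) ≠ 0 := by
    intro h
    apply hd
    have : H615.DefZeroChar.NN χ = 0 := by exact_mod_cast h
    rw [this]; exact dvd_zero _
  have hval : ¬ MemLocalIdeal M ((χ : G → ℂ) g⁻¹) := by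
    intro h3
    apply hg
    have h4 : blockCoeff {χ} g = (χ : G → ℂ) g⁻¹ * ((H615.DefZeroChar.NN χ : ℕ) : ℂ)⁻¹ := by
      rw [Blocks.Basic.blockCoeff_def, finsum_mem_singleton, Blocks.Orthogonality.irr_apply_inv χ.2,
        ← H615.DefZeroChar.one_mul_NN χ]
      have := H615.DefZeroChar.one_ne χ
      field_simp
    rw [h4]
    refine memLocalIdeal_mul_right hM h3 (memLocalRing_inv (memLocalRing_natCast hM _) ?_)
    rw [memLocalIdeal_natCast_iff hM]
    exact hd
  have hc : (Nat.card G : ℂ) * ρ.character g⁻¹ / (Module.finrank ℂ V : ℂ) =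
      ((H615.DefZeroChar.NN χ : ℕ) : ℂ) * (χ : G → ℂ) g⁻¹ := by
    rw [← H615.DefZeroChar.one_mul_NN χ]
    have h1 : (χ : G → ℂ) 1 = (Module.finrank ℂ V : ℂ) := ρ.char_one
    have h2 : (Module.finrank ℂ V : ℂ) ≠ 0 := by rw [← h1]; exact H615.DefZeroChar.one_ne χ
    rw [h1, mul_assoc, mul_div_cancel_left₀ _ h2]
  have hint : MemLocalRing M ((χ : G → ℂ) g⁻¹) :=
    memLocalRing_of_isIntegral hM (Blocks.Central.isIntegral_irr χ.2 _)
  have k1 : MemLocalRing M ((Nat.card G : ℂ) * ρ.character g⁻¹ / (Module.finrank ℂ V : ℂ)) := by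
    rw [hc]; exact memLocalRing_mul hM (memLocalRing_natCast hM _) hint
  have k2 : ¬ MemLocalIdeal M ((Nat.card G : ℂ) * ρ.character g⁻¹ / (Module.finrank ℂ V : ℂ)) := by
    rw [hc, memLocalIdeal_mul_iff hM (memLocalRing_natCast hM _) hint, memLocalIdeal_natCast_iff hM]
    rintro (h | h)
    · exact hd h
    · exact hval h
  obtain ⟨x, hx0, hxU, -, hline, ⟨β, hβ1, hβ2, hβ⟩, hsig⟩ := core hM ρ hρ k1 k2 U T hU hT hTc n₀ hcell
    ⟨w, hw0, fun u hu => hw u (hUP hu)⟩
  obtain ⟨c, hc'⟩ := hline w fun u hu => hw u (hUP hu)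
  have hc0 : c ≠ 0 := by
    rintro rfl
    rw [zero_smul] at hc'
    exact hw0 hc'
  have hxm : ρ m x = x := by
    have h1 := hw m hm
    rw [hc', map_smul] at h1
    exact smul_right_injective V hc0 h1
  have h3 : ρ n₀ x = ρ (n₀ * m⁻¹) x := by
    conv_rhs => rw [← hxm]
    rw [← Module.End.mul_apply, ← map_mul]
    congr 2
    group
  obtain ⟨τ, hτ, h4⟩ := hsig (n₀ * m⁻¹)
  rw [← h3, hβ, smul_smul] at h4
  have h5 : β = (Nat.card (Rg U (n₀ * m⁻¹)) : ℂ) * τ := smul_left_injective ℂ hx0 h4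
  apply hβ2
  rw [h5]
  refine memLocalIdeal_mul_right hM ((memLocalIdeal_natCast_iff hM _).2 ?_) hτ
  obtain ⟨z, hzU, hz1, hzg⟩ := hz
  have h6 : Nontrivial (Rg U (n₀ * m⁻¹)) := ⟨⟨⟨⟨z, hzU⟩, hzg⟩, 1, fun h => hz1 (by
    have := congrArg (fun a : Rg U (n₀ * m⁻¹) => ((a : U) : G)) h
    simpa using this)⟩⟩
  have h7 : IsPGroup p (Rg U (n₀ * m⁻¹)) := hU.to_subgroup _
  obtain ⟨n, hn, h8⟩ := (IsPGroup.nontrivial_iff_card h7).1 h6
  rw [h8]
  exact dvd_pow_self p hn.ne'

end fixed

end Cfsg.Agent.H996.Deg.PPow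
end

-- part: H996/Deg/Asm
section
/-!
# An irreducible character of even degree, not a power of two, by parity (helper996)
-/

set_option autoImplicit false
set_option linter.unusedSectionVars false
set_option linter.unusedVariables false

namespace Cfsg.Agent.H996.Deg.Bd

open Module Cfsg Cfsg.Agent.Tits.Core Cfsg.Agent.Tits.Core.Bldg Cfsg.Agent.Tits.Exchange Cfsg.Agent.H249 MulAction
  Cfsg.Agent.H464.PermIrr Cfsg.Agent.H996.Deg.CoxPar Cfsg.Agent.Characters.Core Cfsg.Agent.PermutationGroups.PermChar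

universe u v

variable {I : Type*} [DecidableEq I] [Fintype I] {W : Type v} {Y : Type u} {C : Type*} [Group W] [Group Y]
  {M : CoxeterMatrix I} {cs : CoxeterSystem M W} {p : ℕ} [MulAction Y C] {D : Dat Y I p} {Δ : Bldg cs C} {c : C}

theorem mem_U_of {b : Y} (hb : b ∈ D.B) {k : ℕ} (hk : b ^ p ^ k = 1) : b ∈ D.U := by
  obtain ⟨t, ht, u, hu, rfl⟩ := D.mem_B.1 hb
  have key : ∀ n : ℕ, ∃ v ∈ D.U, (t * u) ^ n = t ^ n * v := by
    intro n
    induction n with
    | zero => exact ⟨1, one_mem _, by rw [pow_zero, pow_zero, mul_one]⟩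
    | succ n ih =>
      obtain ⟨v, hv, e⟩ := ih
      refine ⟨t⁻¹ * v * t * u, mul_mem ?_ hu, ?_⟩
      · have := D.TU t⁻¹ (inv_mem ht) v hv
        rwa [inv_inv] at this
      · rw [pow_succ, e, pow_succ]
        group
  obtain ⟨v, hv, e⟩ := key (p ^ k)
  rw [hk] at e
  have h1 : t ^ p ^ k ∈ D.U := by
    have : t ^ p ^ k = v⁻¹ := by rw [← mul_eq_one_iff_eq_inv]; exact e.symm
    rw [this]
    exact inv_mem hv
  obtain ⟨l, hl⟩ := D.pU ⟨_, h1⟩
  have h2 : t ^ p ^ (k + l) = 1 := by
    have := congrArg Subtype.val hl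
    rw [pow_add, pow_mul]
    exact this
  have h3 : t = 1 := by
    rw [← orderOf_eq_one_iff]
    have h4 : orderOf t ∣ Nat.card D.T := by
      rw [← Subgroup.orderOf_mk t ht]
      exact orderOf_dvd_natCard _
    exact Nat.eq_one_of_dvd_coprimes (D.cop.pow_right (k + l)) h4 (orderOf_dvd_of_pow_eq_one h2)
  rw [h3, one_mul]
  exact hu

theorem eq_w0 [Finite W] (cs : CoxeterSystem M W) {w : W} (h : ∀ i, cs.length (cs.simple i * w) < cs.length w) :
    w = w0 cs := by
  have h1 : w * w0 cs = 1 := by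
    by_contra h2
    obtain ⟨i, hi⟩ := cs.exists_leftDescent_of_ne_one h2
    have h3 : cs.length (cs.simple i * (w * w0 cs)) < cs.length (w * w0 cs) := hi
    have h4 := length_mul_w0 cs w
    have h5 := length_mul_w0 cs (cs.simple i * w)
    rw [← mul_assoc] at h3
    have := h i
    omega
  rw [mul_eq_one_iff_eq_inv.1 h1, w0_inv]

variable (S : Bd D Δ c)
include S

/-- **The cells**: `g` is in the big cell or `U ∩ gUg⁻¹ ≠ 1` -/
theorem cell [Finite W] [Nonempty I] (g : Y) :
    Δ.δ c (g • c) = w0 cs ∨ ∃ z ∈ D.U, z ≠ 1 ∧ g⁻¹ * z * g ∈ D.U := by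
  obtain ⟨u, hu, k, hk, b, hb, rfl⟩ := D.bruhat g
  have hg : Δ.δ c ((u * k * b) • c) = Δ.δ c (k • c) := by
    rw [mul_smul, (S.B b).1 hb, mul_smul, S.δ_B (D.U_le_B hu)]
  rw [hg]
  by_cases hall : ∀ i, ¬ ∀ x ∈ D.X i, k⁻¹ * x * k ∈ D.T ⊔ D.U
  · left
    refine eq_w0 cs fun i => ?_
    have h1 := (D.NX k hk i).resolve_left (hall i)
    obtain ⟨x, hx, hx1⟩ := (Subgroup.bot_or_exists_ne_one (D.X i)).resolve_left (D.Xne i)
    set y := D.n i * x * (D.n i)⁻¹ with hy
    have hyc : y • k • c = k • c := by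
      have := (S.B _).1 (h1 x hx)
      rw [mul_smul, mul_smul, inv_smul_eq_iff] at this
      exact this
    -- `y` does not fix `c`
    have hyc' : y • c ≠ c := by
      intro h2
      apply hx1
      refine D.nX i x hx ?_
      have h3 : y ∈ D.B := (S.B y).2 h2
      have e3 : (D.n i)⁻¹ * x * D.n i = (D.n i * D.n i)⁻¹ * y * (D.n i * D.n i) := by rw [hy]; group
      rw [e3]
      exact mul_mem (mul_mem (inv_mem (D.T_le_B (D.sq i))) h3) (D.T_le_B (D.sq i))
    have hyP : y ∈ D.P i := mul_mem (mul_mem (D.n_mem_P i) (D.B_le_P i (D.U_le_B (D.XU i hx)))) (inv_mem (D.n_mem_P i))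
    have h2 : Δ.δ c (y • c) = cs.simple i := by
      refine (S.P_stab hyP).resolve_left fun h => hyc' ?_
      exact ((Δ.eq_one _ _).1 h).symm
    have h3 : Δ.δ (y • c) (k • c) = Δ.δ c (k • c) := by
      conv_lhs => rw [← hyc]
      exact S.iso y c (k • c)
    -- lengths
    by_contra hlt
    have hlt' : cs.length (Δ.δ c (k • c)) < cs.length (cs.simple i * Δ.δ c (k • c)) := by
      have := cs.length_simple_mul_ne (Δ.δ c (k • c)) i
      omega
    have h4 : Δ.δ (k • c) (y • c) = Δ.δ (k • c) c * cs.simple i := by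
      refine Δ.step_lt (k • c) c (y • c) i h2 ?_
      rw [Δ.symm c (k • c), ← cs.length_inv, ← cs.length_inv ((Δ.δ c (k • c))⁻¹ * cs.simple i), inv_inv, mul_inv_rev,
        inv_inv, cs.inv_simple]
      exact hlt'
    rw [Δ.symm (y • c), h3, Δ.symm c (k • c)] at h4
    have h5 : cs.simple i = 1 := by
      rw [eq_comm, mul_eq_left] at h4
      exact h4
    have h6 := cs.length_simple i
    rw [h5, cs.length_one] at h6
    exact absurd h6 (by norm_num)
  · right
    push Not at hall
    obtain ⟨i, hi⟩ := hall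
    obtain ⟨x, hx, hx1⟩ := (Subgroup.bot_or_exists_ne_one (D.X i)).resolve_left (D.Xne i)
    refine ⟨u * x * u⁻¹, mul_mem (mul_mem hu (D.XU i hx)) (inv_mem hu), ?_, ?_⟩
    · intro h
      exact hx1 (by rw [← conj_eq_one_iff (a := u)]; exact h)
    · have h1 : k⁻¹ * x * k ∈ D.B := hi x hx
      have h2 : k⁻¹ * x * k ∈ D.U := by
        obtain ⟨l, hl⟩ := D.pU ⟨x, D.XU i hx⟩
        have hl' : x ^ p ^ l = 1 := congrArg Subtype.val hl
        refine mem_U_of h1 (k := l) ?_
        have e : k⁻¹ * x * k = k⁻¹ * x * (k⁻¹)⁻¹ := by rw [inv_inv]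
        rw [e, conj_pow, hl', mul_one, mul_inv_cancel]
      have e : (u * k * b)⁻¹ * (u * x * u⁻¹) * (u * k * b) = b⁻¹ * (k⁻¹ * x * k) * (b⁻¹)⁻¹ := by group
      rw [e]
      exact D.BU _ (inv_mem hb) _ h2

theorem exists_n0 [Finite W] (i : I) :
    ∃ n₀ ∈ D.N, Δ.δ c (n₀ • c) = w0 cs ∧ Δ.δ c ((n₀ * (D.n i)⁻¹) • c) ≠ w0 cs := by
  -- `w' = w₀ s_i`
  have h1 := length_w0_mul cs (cs.simple i)
  rw [cs.length_simple] at h1
  obtain ⟨y, hy⟩ := Δ.exists_δ c (w0 cs * cs.simple i)
  obtain ⟨g, rfl⟩ := S.trans y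
  obtain ⟨u, hu, k, hk, b, hb, rfl⟩ := D.bruhat g
  have hg : Δ.δ c ((u * k * b) • c) = Δ.δ c (k • c) := by
    rw [mul_smul, (S.B b).1 hb, mul_smul, S.δ_B (D.U_le_B hu)]
  rw [hg] at hy
  refine ⟨k * D.n i, mul_mem hk (D.nN i), ?_, ?_⟩
  · have h2 : Δ.δ (k • c) ((k * D.n i) • c) = cs.simple i := by
      rw [mul_smul, S.iso, S.n]
    have h3 := Δ.step_lt c (k • c) ((k * D.n i) • c) i h2 (by
      rw [hy, mul_assoc, cs.simple_mul_simple_self, mul_one]
      omega)
    rw [h3, hy, mul_assoc, cs.simple_mul_simple_self, mul_one]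
  · rw [mul_inv_cancel_right, hy]
    intro h
    rw [h] at h1
    omega

theorem big [Finite W] {n₀ : Y} (hn : n₀ ∈ D.N) (h : Δ.δ c (n₀ • c) = w0 cs) {g : Y}
    (hg : Δ.δ c (g • c) = w0 cs) : ∃ u ∈ D.U, ∃ t ∈ D.T, ∃ u' ∈ D.U, g = u * n₀ * t * u' := by
  obtain ⟨b, hb1, hb2⟩ := S.tr c (n₀ • c) c (g • c) (by rw [h, hg])
  have hb : b ∈ D.B := (S.B b).2 hb1
  have h2 : (b * n₀)⁻¹ * g ∈ D.B := by
    rw [S.B, mul_smul, ← hb2, smul_smul b, inv_smul_smul]
  obtain ⟨t₁, ht₁, u₁, hu₁, e1⟩ := D.mem_B.1 hb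
  obtain ⟨t₂, ht₂, u₂, hu₂, e2⟩ := D.mem_B.1 h2
  refine ⟨t₁ * u₁ * t₁⁻¹, D.TU _ ht₁ _ hu₁, n₀⁻¹ * t₁ * n₀ * t₂, mul_mem ?_ ht₂, u₂, hu₂, ?_⟩
  · have := D.NT n₀⁻¹ (inv_mem hn) t₁ ht₁
    rwa [inv_inv] at this
  · have h3 : g = b * n₀ * ((b * n₀)⁻¹ * g) := by group
    rw [h3, e2, e1]
    group

omit S in
/-- a constituent of the permutation character on `G ⧸ P` has a vector fixed by `P` -/
theorem _root_.Cfsg.Agent.H996.Deg.exists_fixed {G : Type*} [Group G] [Fintype G] (P : Subgroup G) {n : ℕ}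
    (ρ : Representation ℂ G (Fin n → ℂ)) (hin : classInner (pc G (G ⧸ P)) ρ.character ≠ 0) :
    ∃ w : Fin n → ℂ, w ≠ 0 ∧ ∀ g ∈ P, ρ g w = w := by
  classical
  have : Fintype (G ⧸ P) := Fintype.ofFinite _
  have e : pc G (G ⧸ P) = fun g : G => (Nat.card (MulAction.fixedBy (G ⧸ P) g) : ℂ) := rfl
  rw [e, classInner_permChar] at hin
  have h2 : finrank ℂ (ρ.IntertwiningMap (permRep ℂ G (G ⧸ P))) ≠ 0 := by exact_mod_cast hin
  obtain ⟨f, hf⟩ : ∃ f : Representation.IntertwiningMap ρ (permRep ℂ G (G ⧸ P)), f ≠ 0 := by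
    have : Nontrivial (Representation.IntertwiningMap ρ (permRep ℂ G (G ⧸ P))) :=
      Module.nontrivial_of_finrank_pos (R := ℂ) (Nat.pos_of_ne_zero h2)
    exact exists_ne 0
  have hfg : ∀ (g : G) (v : Fin n → ℂ), f.toLinearMap (ρ g v) = permRep ℂ G (G ⧸ P) g (f.toLinearMap v) :=
    fun g v => Representation.IntertwiningMap.isIntertwining _ _ f g v
  obtain ⟨v, hv⟩ : ∃ v, f.toLinearMap v ≠ 0 := by
    by_contra h
    push Not at h
    apply hf
    ext1
    exact LinearMap.ext h
  obtain ⟨x, hx⟩ := Function.ne_iff.1 hv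
  obtain ⟨a, rfl⟩ := QuotientGroup.mk_surjective x
  set v' := ρ a⁻¹ v with hv'
  have h3 : (f.toLinearMap v') ((1 : G) : G ⧸ P) ≠ 0 := by
    rw [hv', hfg]
    show (f.toLinearMap v) ((a⁻¹)⁻¹ • ((1 : G) : G ⧸ P)) ≠ 0
    rw [inv_inv, MulAction.Quotient.smul_coe, smul_eq_mul, mul_one]
    exact hx
  refine ⟨∑ g : P, ρ (g : G) v', ?_, ?_⟩
  · intro h0
    have h4 : (f.toLinearMap (∑ g : P, ρ (g : G) v')) ((1 : G) : G ⧸ P) = Fintype.card P * (f.toLinearMap v') ((1 : G) : G ⧸ P) := by
      rw [map_sum, Finset.sum_apply]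
      have h5 : ∀ g : P, (f.toLinearMap (ρ (g : G) v')) ((1 : G) : G ⧸ P) = (f.toLinearMap v') ((1 : G) : G ⧸ P) := by
        intro g
        rw [hfg]
        show (f.toLinearMap v') ((g : G)⁻¹ • ((1 : G) : G ⧸ P)) = _
        have h6 : (g : G)⁻¹ • ((1 : G) : G ⧸ P) = ((1 : G) : G ⧸ P) := by
          rw [MulAction.Quotient.smul_coe, smul_eq_mul, mul_one]
          exact QuotientGroup.eq.2 (by rw [inv_inv, mul_one]; exact g.2)
        rw [h6]
      simp only [h5, Finset.sum_const, Finset.card_univ, nsmul_eq_mul]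
    rw [h0, map_zero] at h4
    have h5 : (Fintype.card P : ℂ) ≠ 0 := by exact_mod_cast Fintype.card_ne_zero
    exact (mul_ne_zero h5 h3) h4.symm
  · intro g hg
    rw [map_sum]
    have h4 : ∀ x : P, ρ g (ρ (x : G) v') = ρ (((⟨g, hg⟩ * x : P) : G)) v' := by
      intro x
      show _ = ρ (g * x) v'
      rw [map_mul]
      rfl
    simp only [h4]
    exact Equiv.sum_comp (Equiv.mulLeft (⟨g, hg⟩ : P)) (fun x : P => ρ (x : G) v')

/-- **Parity**: a constituent of the permutation character on a minimal parabolic subgroup of a simple group in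
characteristic two whose degree is even and not a power of two -/
theorem exists_even_char [Finite W] [Fintype Y] [IsSimpleGroup Y] (hnc : ¬ IsMulCommutative Y) (hp2 : p = 2)
    (hT : ∀ s ∈ D.T, ∀ t ∈ D.T, s * t = t * s)
    (hloc : ∀ K : Subgroup Y, IsPGroup 2 K → K ≠ ⊥ →
      Subgroup.centralizer (pCore 2 ↥(Subgroup.normalizer (K : Set Y)) : Set ↥(Subgroup.normalizer (K : Set Y))) ≤
        pCore 2 ↥(Subgroup.normalizer (K : Set Y)))
    {i : I} (hodd : ¬ 2 ∣ (D.P i).index) (hev : Even (Nat.card (DC (cs.simple i)))) :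
    ∃ χ : IrrCharacter Y, 2 ∣ charDegree (χ : Y → ℂ) ∧ ∃ l, l.Prime ∧ l ≠ 2 ∧ l ∣ charDegree (χ : Y → ℂ) := by
  have : Fact (Nat.Prime 2) := ⟨Nat.prime_two⟩
  have : Nonempty I := ⟨i⟩
  obtain ⟨χ, h1, h2⟩ := Parity.exists_even (G := Y) (Y ⧸ D.P i) (by rwa [← Subgroup.index]) (by rwa [S.card_orbits i])
  refine ⟨χ, h2, ?_⟩
  by_contra hcon
  push Not at hcon
  have h3 := PPow.not_dvd_of_ppow (p := 2) hnc hloc χ h2 (fun l hl hd => by
    by_contra hne
    exact hcon l hl hne hd)
  obtain ⟨n, ρ, hρ, e⟩ := χ.2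
  rw [← e] at h1
  obtain ⟨w, hw0, hw⟩ := exists_fixed (D.P i) ρ h1
  obtain ⟨n₀, hn₀, hw1, hw2⟩ := S.exists_n0 i
  refine hw0 (PPow.no_fixed (p := 2) ρ hρ ?_ D.U D.T ?_ ?_ hT n₀ ?_ (D.P i) (D.U_le_B.trans (D.B_le_P i)) (D.n_mem_P i)
    ((S.cell _).resolve_left hw2) hw)
  · have h4 : charDegree (χ : Y → ℂ) = Module.finrank ℂ (Fin n → ℂ) := by
      rw [← e]
      exact H670.PSing.charDegree_eq_of ρ.char_one
    rwa [← h4]
  · subst hp2; exact D.pU
  · intro t ht u hu
    have := D.TU t⁻¹ (inv_mem ht) u hu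
    rwa [inv_inv] at this
  · intro g
    rcases S.cell g with h | h
    · exact Or.inl (S.big hn₀ hw1 h)
    · exact Or.inr h

end Cfsg.Agent.H996.Deg.Bd
end

private theorem dce_94391b26dfeb : _root_.True := by
  try have : _root_.True := by simp only [_root_.Cfsg.blockDefect.eq_1]
  exact _root_.True.intro
end

-- part: H996/Deg/GThree
section
prune_inst 0xd000070004001200000005000000000034000002004000008002000000000040c0000000001000021000000000000000000000000000000000000000000000208000000000000108740009000100000000000000000000000000000000000000000000000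
set_option linter.all false
open scoped Cfsg.Agent.FastGrp

-- part: H996/Deg/Hecke
section
/-!
# The Hecke algebra of a finite building acting on the functions on the chambers (helper996)
-/

set_option autoImplicit false
set_option linter.unusedSectionVars false
set_option linter.unusedVariables false

namespace Cfsg.Agent.H996.Deg.Hk

open Cfsg.Agent.Tits.Core Cfsg.Agent.Tits.Core.Bldg Classical

variable {I W C : Type*} [Group W] {M : CoxeterMatrix I} {cs : CoxeterSystem M W} (Δ : Bldg cs C) [Fintype C]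

/-- the adjacency matrix of the distance `w` -/
noncomputable def T (w : W) : Matrix C C ℂ := Matrix.of fun x y => if Δ.δ x y = w then 1 else 0

theorem T_apply (w : W) (x y : C) : T Δ w x y = if Δ.δ x y = w then 1 else 0 := rfl

theorem T_one : T Δ 1 = 1 := by
  ext x y
  rw [T_apply, Matrix.one_apply]
  simp only [Δ.eq_one]

theorem trace_T {w : W} (hw : w ≠ 1) : (T Δ w).trace = 0 := by
  rw [Matrix.trace]
  refine Finset.sum_eq_zero fun x _ => ?_
  rw [Matrix.diag_apply, T_apply, Δ.δ_self, if_neg (Ne.symm hw)]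

theorem T_mul {w : W} {i : I} (h : cs.length w < cs.length (w * cs.simple i)) :
    T Δ w * T Δ (cs.simple i) = T Δ (w * cs.simple i) := by
  ext x z
  rw [Matrix.mul_apply, T_apply]
  have key : ∀ y, T Δ w x y * T Δ (cs.simple i) y z = if Δ.δ x y = w ∧ Δ.δ y z = cs.simple i then 1 else 0 := by
    intro y
    rw [T_apply, T_apply]
    by_cases h1 : Δ.δ x y = w
    · by_cases h2 : Δ.δ y z = cs.simple i
      · simp [h1, h2]
      · simp [h2]
    · simp [h1]
  rw [Finset.sum_congr rfl fun y _ => key y]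
  by_cases h1 : Δ.δ x z = w * cs.simple i
  · rw [if_pos h1]
    obtain ⟨y, hy1, hy2⟩ := Δ.exists_step x z i
    have hy : Δ.δ x y = w ∧ Δ.δ y z = cs.simple i := by
      refine ⟨by rw [hy2, h1, cs.simple_mul_simple_cancel_right], ?_⟩
      rw [Δ.symm z y, hy1, cs.inv_simple]
    rw [Finset.sum_eq_single y]
    · rw [if_pos hy]
    · intro y' _ hne
      rw [if_neg]
      rintro ⟨h2, h3⟩
      have h4 : Δ.δ y y' ≠ 1 := fun h4 => hne ((Δ.eq_one _ _).1 h4).symm
      have h5 : Δ.δ z y' = cs.simple i := by rw [Δ.symm y' z, h3, cs.inv_simple]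
      have h6 : Δ.δ y y' = cs.simple i := by
        rcases Δ.step y z y' i h5 with h6 | h6
        · rw [hy.2, cs.simple_mul_simple_self] at h6
          exact absurd h6 h4
        · rw [h6, hy.2]
      have h7 := Δ.step_lt x y y' i h6 (by rw [hy.1]; exact h)
      rw [hy.1, h2] at h7
      exact absurd (congrArg cs.length h7) h.ne
    · exact fun h => absurd (Finset.mem_univ _) h
  · rw [if_neg h1]
    refine Finset.sum_eq_zero fun y _ => ?_
    rw [if_neg]
    rintro ⟨h2, h3⟩
    apply h1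
    rw [Δ.step_lt x y z i h3 (by rw [h2]; exact h), h2]

/-- **The quadratic relation** -/
theorem T_sq {i : I} {q : ℕ} (hq : ∀ x, Nat.card {y // Δ.δ x y = cs.simple i} = q) :
    T Δ (cs.simple i) * T Δ (cs.simple i) = (q : ℂ) • (1 : Matrix C C ℂ) + ((q : ℂ) - 1) • T Δ (cs.simple i) := by
  ext x z
  rw [Matrix.mul_apply, Matrix.add_apply, Matrix.smul_apply, Matrix.smul_apply, T_apply]
  have key : ∀ y, T Δ (cs.simple i) x y * T Δ (cs.simple i) y z =
      if Δ.δ x y = cs.simple i ∧ Δ.δ y z = cs.simple i then 1 else 0 := by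
    intro y
    rw [T_apply, T_apply]
    by_cases h1 : Δ.δ x y = cs.simple i
    · by_cases h2 : Δ.δ y z = cs.simple i
      · simp [h1, h2]
      · simp [h2]
    · simp [h1]
  rw [Finset.sum_congr rfl fun y _ => key y, Finset.sum_boole]
  have hs1 : cs.simple i ≠ 1 := by
    intro h
    have := cs.length_simple i
    rw [h, cs.length_one] at this
    exact absurd this (by norm_num)
  have hsym : ∀ {a b : C}, Δ.δ a b = cs.simple i → Δ.δ b a = cs.simple i := fun {a b} h => by
    rw [Δ.symm a b, h, cs.inv_simple]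
  have hc : ∀ x, ((Finset.univ.filter fun y => Δ.δ x y = cs.simple i).card : ℂ) = q := by
    intro x
    rw [← hq x, Nat.card_eq_fintype_card, Fintype.card_subtype]
  by_cases h1 : x = z
  · subst h1
    rw [Matrix.one_apply_eq, Δ.δ_self, if_neg (Ne.symm hs1), smul_zero, add_zero, smul_eq_mul, mul_one, ← hc x]
    congr 2
    refine Finset.filter_congr fun y _ => ?_
    exact ⟨fun h => h.1, fun h => ⟨h, hsym h⟩⟩
  · rw [Matrix.one_apply_ne h1, smul_zero, zero_add]
    by_cases h2 : Δ.δ x z = cs.simple i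
    · rw [if_pos h2, smul_eq_mul, mul_one, ← hc x]
      have h3 : (Finset.univ.filter fun y => Δ.δ x y = cs.simple i ∧ Δ.δ y z = cs.simple i) =
          (Finset.univ.filter fun y => Δ.δ x y = cs.simple i).erase z := by
        ext y
        simp only [Finset.mem_filter, Finset.mem_univ, true_and, Finset.mem_erase]
        constructor
        · rintro ⟨h3, h4⟩
          refine ⟨?_, h3⟩
          rintro rfl
          rw [Δ.δ_self] at h4
          exact hs1 h4.symm
        · rintro ⟨h3, h4⟩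
          refine ⟨h4, ?_⟩
          rcases Δ.step y x z i h2 with h5 | h5
          · rw [hsym h4, cs.simple_mul_simple_self] at h5
            exact absurd ((Δ.eq_one _ _).1 h5) h3
          · rw [h5, hsym h4]
      rw [h3, Finset.card_erase_of_mem (by simp [h2]), Nat.cast_sub]
      · rw [Nat.cast_one]
      · exact Finset.card_pos.2 ⟨z, by simp [h2]⟩
    · rw [if_neg h2, smul_zero]
      have h3 : (Finset.univ.filter fun y => Δ.δ x y = cs.simple i ∧ Δ.δ y z = cs.simple i) = ∅ := by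
        ext y
        simp only [Finset.mem_filter, Finset.mem_univ, true_and, Finset.notMem_empty, iff_false, not_and]
        intro h3 h4
        rcases Δ.step x y z i h4 with h5 | h5
        · rw [h3, cs.simple_mul_simple_self] at h5
          exact h1 ((Δ.eq_one _ _).1 h5)
        · exact h2 (by rw [h5, h3])
      rw [h3, Finset.card_empty, Nat.cast_zero]

end Cfsg.Agent.H996.Deg.Hk
end

-- part: H996/Deg/HexAlg
section
/-!
# The Hecke algebra of type `G₂` with parameter `3`: the collinearity operator `e b` (helper996)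
-/

set_option autoImplicit false

namespace Cfsg.Agent.H996.Deg.HexAlg

variable {R : Type*} [Ring R] {a b : R}

theorem ee (ha : a * a = 3 + 2 * a) : (1 + a) * (1 + a) = 4 * (1 + a) := by
  linear_combination (norm := (noncomm_ring; simp)) ha

theorem ea (ha : a * a = 3 + 2 * a) : (1 + a) * a = 3 * (1 + a) := by
  linear_combination (norm := (noncomm_ring; simp)) ha

theorem ae (ha : a * a = 3 + 2 * a) : a * (1 + a) = 3 * (1 + a) := by
  linear_combination (norm := (noncomm_ring; simp)) ha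

theorem h1 (ha : a * a = 3 + 2 * a) (hb : b * b = 3 + 2 * b) :
    (1 + a) * b * ((1 + a) * b * (1 + a)) =
      12 * (1 + a) + 2 * ((1 + a) * b * (1 + a)) + (1 + a) * b * a * b * (1 + a) := by
  linear_combination (norm := noncomm_ring) (1 + a) * hb * (1 + a) + 3 * ee ha

theorem h2 (ha : a * a = 3 + 2 * a) (hb : b * b = 3 + 2 * b) :
    (1 + a) * b * ((1 + a) * b * a * b * (1 + a)) =
      9 * ((1 + a) * b * (1 + a)) + 2 * ((1 + a) * b * a * b * (1 + a)) + (1 + a) * b * a * b * a * b * (1 + a) := by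
  linear_combination (norm := noncomm_ring) (1 + a) * hb * (a * b * (1 + a)) + 3 * (ea ha * (b * (1 + a)))

theorem h3 (ha : a * a = 3 + 2 * a) (hb : b * b = 3 + 2 * b) (hab : b * a * b * a * b * a = a * b * a * b * a * b) :
    (1 + a) * b * ((1 + a) * b * a * b * a * b * (1 + a)) =
      36 * ((1 + a) * b * a * b * (1 + a)) + 8 * ((1 + a) * b * a * b * a * b * (1 + a)) := by
  linear_combination (norm := noncomm_ring) (1 + a) * hb * (a * b * a * b * (1 + a)) +
    3 * (ea ha * (b * a * b * (1 + a))) + (1 + a) * hab * (b * (1 + a)) +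
    (1 + a) * (a * b * a * b * a) * hb * (1 + a) + ea ha * (b * a * b * a * (3 + 2 * b) * (1 + a)) +
    9 * ((1 + a) * b * a * b * ae ha)

/-- **The relation** `(A - 12)(A - 5)(A + 1)(A + 4) e = 0`, `A = e b` -/
theorem rel (ha : a * a = 3 + 2 * a) (hb : b * b = 3 + 2 * b) (hab : b * a * b * a * b * a = a * b * a * b * a * b) :
    (1 + a) * b * ((1 + a) * b * ((1 + a) * b * ((1 + a) * b * (1 + a)))) -
      12 * ((1 + a) * b * ((1 + a) * b * ((1 + a) * b * (1 + a)))) - 21 * ((1 + a) * b * ((1 + a) * b * (1 + a))) +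
      232 * ((1 + a) * b * (1 + a)) + 240 * (1 + a) = 0 := by
  have k1 := h1 ha hb
  have k2 := h2 ha hb
  have k3 := h3 ha hb hab
  generalize hx1 : (1 + a) * b * (1 + a) = x1 at *
  generalize hx2 : (1 + a) * b * a * b * (1 + a) = x2 at *
  generalize hx3 : (1 + a) * b * a * b * a * b * (1 + a) = x3 at *
  generalize hz : (1 + a) * b = z at *
  rw [k1]
  have e1 : z * (12 * (1 + a) + 2 * x1 + x2) = 12 * x1 + 2 * (12 * (1 + a) + 2 * x1 + x2) + (9 * x1 + 2 * x2 + x3) := by
    rw [← hx1]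
    rw [← hx1] at k1 k2 
    linear_combination (norm := noncomm_ring) 2 * k1 + k2
  rw [e1]
  have e2 : z * (12 * x1 + 2 * (12 * (1 + a) + 2 * x1 + x2) + (9 * x1 + 2 * x2 + x3)) =
      25 * (12 * (1 + a) + 2 * x1 + x2) + 24 * x1 + 4 * (9 * x1 + 2 * x2 + x3) + (36 * x2 + 8 * x3) := by
    have hz1 : z * (1 + a) = x1 := hx1
    linear_combination (norm := noncomm_ring) 24 * hz1 + 25 * k1 + 4 * k2 + k3
  rw [e2]
  noncomm_ring

end Cfsg.Agent.H996.Deg.HexAlg
end

-- part: H996/Deg/IrrRank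
section
/-!
# Degrees of the constituents of a permutation character from idempotents of the centraliser algebra (helper996)

`G` acts on the finite set `X` with `r` orbits on `X × X`; `Q j` (`j : J`, `|J| = r`) nonzero idempotent matrices invariant
under `G` with sum `1`. Then every `Q j` affords an irreducible character, of degree the trace of `Q j`.
-/

set_option autoImplicit false
set_option linter.unusedSectionVars false
set_option linter.unusedVariables false

namespace Cfsg.Agent.H996.Deg.IrrRank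

open Module Cfsg MulAction Cfsg.Agent.H464.PermIrr Cfsg.Agent.Characters.Core Cfsg.Agent.PermutationGroups.PermChar

variable {G X : Type*} [Group G] [Fintype X] [DecidableEq X] [MulAction G X]

/-- invariant matrices -/
def Inv (G : Type*) {X : Type*} [Group G] [MulAction G X] (Q : Matrix X X ℂ) : Prop :=
  ∀ (g : G) (x y : X), Q (g • x) (g • y) = Q x y

theorem Inv.mul {P Q : Matrix X X ℂ} (hP : Inv G P) (hQ : Inv G Q) : Inv G (P * Q) := by
  intro g x y
  rw [Matrix.mul_apply, Matrix.mul_apply, ← Equiv.sum_comp (MulAction.toPerm g)]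
  refine Finset.sum_congr rfl fun z _ => ?_
  rw [MulAction.toPerm_apply, hP, hQ]

omit [Fintype X] [DecidableEq X] in
theorem Inv.add {P Q : Matrix X X ℂ} (hP : Inv G P) (hQ : Inv G Q) : Inv G (P + Q) := fun g x y => by
  rw [Matrix.add_apply, Matrix.add_apply, hP, hQ]

omit [Fintype X] [DecidableEq X] in
theorem Inv.sub {P Q : Matrix X X ℂ} (hP : Inv G P) (hQ : Inv G Q) : Inv G (P - Q) := fun g x y => by
  rw [Matrix.sub_apply, Matrix.sub_apply, hP, hQ]

omit [Fintype X] [DecidableEq X] in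
theorem Inv.smul {P : Matrix X X ℂ} (c : ℂ) (hP : Inv G P) : Inv G (c • P) := fun g x y => by
  rw [Matrix.smul_apply, Matrix.smul_apply, hP]

omit [Fintype X] in
theorem Inv.one : Inv G (1 : Matrix X X ℂ) := fun g x y => by
  rw [Matrix.one_apply, Matrix.one_apply]
  simp only [smul_left_cancel_iff]

omit [DecidableEq X] in
theorem comm_perm {Q : Matrix X X ℂ} (hQ : Inv G Q) (g : G) (f : X → ℂ) :
    Q.mulVec (permRep ℂ G X g f) = permRep ℂ G X g (Q.mulVec f) := by
  funext x
  rw [permRep_apply, Matrix.mulVec, Matrix.mulVec, dotProduct, dotProduct, ← Equiv.sum_comp (MulAction.toPerm g)]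
  refine Finset.sum_congr rfl fun z _ => ?_
  rw [MulAction.toPerm_apply, permRep_apply, inv_smul_smul, ← hQ g (g⁻¹ • x) z, smul_inv_smul]

/-- the character afforded by an idempotent -/
noncomputable def ch (G : Type*) [Group G] [MulAction G X] (Q : Matrix X X ℂ) (g : G) : ℂ :=
  LinearMap.trace ℂ (X → ℂ) (Matrix.toLin' Q ∘ₗ permRep ℂ G X g)

theorem isCharacter_ch {Q : Matrix X X ℂ} (hQ : Inv G Q) (h2 : Q * Q = Q) : IsCharacter G (ch G Q) := by
  have hidem : ∀ f ∈ LinearMap.range (Matrix.toLin' Q), Matrix.toLin' Q f = f := by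
    rintro _ ⟨f, rfl⟩
    rw [← LinearMap.comp_apply, ← Matrix.toLin'_mul, h2]
  let A : Subrepresentation (permRep ℂ G X) :=
    { toSubmodule := LinearMap.range (Matrix.toLin' Q)
      apply_mem_toSubmodule := by
        rintro g _ ⟨f, rfl⟩
        refine ⟨permRep ℂ G X g f, ?_⟩
        rw [Matrix.toLin'_apply, Matrix.toLin'_apply, comm_perm hQ] }
  have h3 : ch G Q = A.toRepresentation.character := by
    funext g
    have h4 : ∀ f : X → ℂ, (Matrix.toLin' Q ∘ₗ permRep ℂ G X g) f ∈ LinearMap.range (Matrix.toLin' Q) :=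
      fun f => ⟨_, rfl⟩
    have h5 := LinearMap.trace_restrict_eq_of_forall_mem (LinearMap.range (Matrix.toLin' Q))
      (Matrix.toLin' Q ∘ₗ permRep ℂ G X g) h4
    rw [ch, ← h5]
    show _ = LinearMap.trace ℂ _ (A.toRepresentation g)
    congr 1
    ext1 ⟨f, hf⟩
    apply Subtype.ext
    show Matrix.toLin' Q (permRep ℂ G X g f) = permRep ℂ G X g f
    exact hidem _ (A.apply_mem_toSubmodule g hf)
  rw [h3]
  exact Characters.Core.isCharacter_of_rep _

theorem ch_one (Q : Matrix X X ℂ) : ch G Q 1 = Q.trace := by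
  rw [ch, map_one, Module.End.one_eq_id, LinearMap.comp_id, Matrix.trace_toLin'_eq]

theorem sum_ch {J : Type*} [Fintype J] (Q : J → Matrix X X ℂ) (h : ∑ j, Q j = 1) :
    pc G X = ∑ j, ch G (Q j) := by
  funext g
  rw [pc, ← permRep_character, Finset.sum_apply]
  show LinearMap.trace ℂ _ (permRep ℂ G X g) = ∑ j, LinearMap.trace ℂ _ _
  rw [← map_sum]
  congr 1
  have h1 : ∑ j, Matrix.toLin' (Q j) ∘ₗ permRep ℂ G X g = (∑ j, Matrix.toLin' (Q j)) ∘ₗ permRep ℂ G X g := by
    refine LinearMap.ext fun f => ?_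
    rw [LinearMap.sum_apply, LinearMap.comp_apply, LinearMap.sum_apply]
    rfl
  rw [h1, ← map_sum, h, Matrix.toLin'_one, LinearMap.id_comp]

/-- **The idempotents are primitive** -/
theorem exists_irr [Fintype G] {J : Type*} [Fintype J] (Q : J → Matrix X X ℂ) (hQ : ∀ j, Inv G (Q j))
    (h2 : ∀ j, Q j * Q j = Q j) (h0 : ∀ j, (Q j).trace ≠ 0) (h : ∑ j, Q j = 1)
    (hr : Nat.card (orbitRel.Quotient G (X × X)) ≤ Fintype.card J) (j : J) :
    ∃ χ : IrrCharacter G, (charDegree (χ : G → ℂ) : ℂ) = (Q j).trace := by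
  classical
  have := finite_irr (G := G)
  have := Fintype.ofFinite (IrrCharacter G)
  have key : ∀ j, ∃ m : IrrCharacter G → ℕ, ch G (Q j) = ∑ ψ : IrrCharacter G, m ψ • (ψ : G → ℂ) :=
    fun j => exists_nat_comb (isCharacter_ch (hQ j) (h2 j))
  choose m hm using key
  have e : pc G X = ∑ ψ : IrrCharacter G, ((∑ j, m j ψ : ℕ) : ℂ) • (ψ : G → ℂ) := by
    rw [sum_ch Q h, Finset.sum_congr rfl fun j _ => hm j, Finset.sum_comm]
    refine Finset.sum_congr rfl fun ψ _ => ?_
    rw [Nat.cast_smul_eq_nsmul, Finset.sum_smul]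
  have h3 : (Nat.card (orbitRel.Quotient G (X × X)) : ℂ) = ∑ ψ, ((∑ j, m j ψ : ℕ) : ℂ) * ((∑ j, m j ψ : ℕ) : ℂ) := by
    rw [← classInner_pc G X X, e, classInner_sum_smul_sum_smul]
    refine Finset.sum_congr rfl fun ψ _ => ?_
    rw [Complex.conj_natCast]
  have h3' : ∑ ψ, (∑ j, m j ψ) * (∑ j, m j ψ) ≤ Fintype.card J := by
    refine le_trans (le_of_eq ?_) hr
    exact_mod_cast h3.symm
  -- every `m j` is nonzero
  have h4 : ∀ j, 1 ≤ ∑ ψ, m j ψ := by
    intro j
    by_contra hlt
    have h5 : ∑ ψ, m j ψ = 0 := by omega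
    apply h0 j
    rw [← ch_one (G := G), hm, Finset.sum_apply]
    refine Finset.sum_eq_zero fun ψ _ => ?_
    rw [Finset.sum_eq_zero_iff.1 h5 ψ (Finset.mem_univ _), zero_smul]
    rfl
  have h5 : ∑ j, ∑ ψ, m j ψ ≤ Fintype.card J := by
    refine le_trans ?_ h3'
    rw [Finset.sum_comm]
    refine Finset.sum_le_sum fun ψ _ => ?_
    rcases Nat.eq_zero_or_pos (∑ j, m j ψ) with h6 | h6
    · rw [h6]
    · exact Nat.le_mul_of_pos_left _ h6
  have h6 : ∑ ψ, m j ψ = 1 := by
    by_contra hne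
    have h7 : 1 < ∑ ψ, m j ψ := lt_of_le_of_ne (h4 j) (Ne.symm hne)
    have h8 : ∑ _j : J, 1 < ∑ j, ∑ ψ, m j ψ :=
      Finset.sum_lt_sum (fun i _ => h4 i) ⟨j, Finset.mem_univ _, h7⟩
    rw [Finset.sum_const, Finset.card_univ, smul_eq_mul, mul_one] at h8
    omega
  obtain ⟨ψ₀, hψ⟩ : ∃ ψ, m j ψ ≠ 0 := by
    by_contra hcon
    push Not at hcon
    rw [Finset.sum_eq_zero fun ψ _ => hcon ψ] at h6
    exact absurd h6 (by norm_num)
  have h7 : ∀ ψ, ψ ≠ ψ₀ → m j ψ = 0 := by
    intro ψ hne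
    by_contra hcon
    have h8 : m j ψ + m j ψ₀ ≤ ∑ ψ, m j ψ := by
      rw [← Finset.sum_pair hne]
      exact Finset.sum_le_sum_of_subset (Finset.subset_univ _)
    omega
  have h8 : m j ψ₀ = 1 := by
    rw [← h6, Finset.sum_eq_single ψ₀ (fun ψ _ hne => h7 ψ hne) (fun h => absurd (Finset.mem_univ _) h)]
  refine ⟨ψ₀, ?_⟩
  rw [← ch_one (G := G), hm, Finset.sum_apply, Finset.sum_eq_single ψ₀]
  · rw [h8, one_smul]
    exact (Blocks.Basic.irr_one_eq_charDegree ψ₀.2).symm
  · intro ψ _ hne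
    rw [h7 ψ hne, zero_smul]
    rfl
  · exact fun h => absurd (Finset.mem_univ _) h

end Cfsg.Agent.H996.Deg.IrrRank
end

-- part: H996/Deg/Hexagon
section
/-!
# The collinearity graph of a building of type `G₂` with parameters `(3, 3)` (helper996)
-/

set_option autoImplicit false
set_option linter.unusedSectionVars false
set_option linter.unusedVariables false

namespace Cfsg.Agent.H996.Deg.Hex

open Cfsg.Agent.Tits.Core Cfsg.Agent.Tits.Core.Bldg Cfsg.Agent.H996.Deg.Hk
  Cfsg.Agent.ChevalleyStructure.CoxeterGeom CoxeterSystem Classical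
open Cfsg.Agent.H996.Deg

section Words

variable {I W : Type*} [Fintype I] [DecidableEq I] [Group W] {M : CoxeterMatrix I} {A : I → I → ℤ}
  (cs : CoxeterSystem M W) (h : IsCartan M A) {i j : I}

include h in
theorem alt_lt (hij : i ≠ j) {k : ℕ} (hk : k < M i j) : cs.length (cs.wordProd (alternatingWord i j k)) <
    cs.length (cs.wordProd (alternatingWord i j k) * cs.simple i) := by
  rw [lt_iff' cs h]
  obtain ⟨x, y, hx, hy, e⟩ := exists_nonneg cs h i j hij k hk
  rw [e]
  exact add_nonneg (Pi.single_nonneg.2 hx) (Pi.single_nonneg.2 hy)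

theorem alt_succ (k : ℕ) : cs.wordProd (alternatingWord j i (k + 1)) =
    cs.wordProd (alternatingWord i j k) * cs.simple i := by
  rw [alternatingWord_succ, cs.wordProd_concat]

include h in
theorem alt_ne_one (hij : i ≠ j) {k : ℕ} (hk : k < M i j) : cs.wordProd (alternatingWord j i (k + 1)) ≠ 1 := by
  intro h1
  have h2 := alt_lt cs h hij hk
  rw [← alt_succ, h1, cs.length_one] at h2
  exact absurd h2 (by omega)

end Words

section Ops

variable {I W C : Type*} [Fintype I] [DecidableEq I] [Group W] {M : CoxeterMatrix I} {A : I → I → ℤ}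
  {cs : CoxeterSystem M W} (h : IsCartan M A) (Δ : Bldg cs C) [Fintype C] {i j : I}

include h in
theorem T_alt (hij : i ≠ j) {k : ℕ} (hk : k < M i j) :
    T Δ (cs.wordProd (alternatingWord j i (k + 1))) = T Δ (cs.wordProd (alternatingWord i j k)) * T Δ (cs.simple i) := by
  rw [T_mul Δ (alt_lt cs h hij hk), alt_succ]

include h in
/-- the relations and the traces of the short words -/
theorem rels (hij : i ≠ j) (hM : M i j = 6) :
    T Δ (cs.simple j) * T Δ (cs.simple i) * T Δ (cs.simple j) * T Δ (cs.simple i) * T Δ (cs.simple j) * T Δ (cs.simple i) =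
      T Δ (cs.simple i) * T Δ (cs.simple j) * T Δ (cs.simple i) * T Δ (cs.simple j) * T Δ (cs.simple i) * T Δ (cs.simple j) ∧
    (T Δ (cs.simple i)).trace = 0 ∧ (T Δ (cs.simple j)).trace = 0 ∧
    (T Δ (cs.simple i) * T Δ (cs.simple j)).trace = 0 ∧
    (T Δ (cs.simple j) * T Δ (cs.simple i) * T Δ (cs.simple j)).trace = 0 ∧
    (T Δ (cs.simple i) * T Δ (cs.simple j) * T Δ (cs.simple i) * T Δ (cs.simple j)).trace = 0 ∧
    (T Δ (cs.simple j) * T Δ (cs.simple i) * T Δ (cs.simple j) * T Δ (cs.simple i) * T Δ (cs.simple j)).trace = 0 ∧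
    (T Δ (cs.simple i) * T Δ (cs.simple j) * T Δ (cs.simple i) * T Δ (cs.simple j) * T Δ (cs.simple i) *
      T Δ (cs.simple j)).trace = 0 := by
  have hM' : M j i = 6 := by rw [M.symmetric, hM]
  have e0 : T Δ (cs.wordProd (alternatingWord i j 0)) = 1 := by
    rw [alternatingWord, cs.wordProd_nil, T_one]
  have e0' : T Δ (cs.wordProd (alternatingWord j i 0)) = 1 := by
    rw [alternatingWord, cs.wordProd_nil, T_one]
  have s1 := fun k (hk : k < 6) => T_alt h Δ hij (k := k) (by rw [hM]; exact hk)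
  have s2 := fun k (hk : k < 6) => T_alt h Δ hij.symm (k := k) (by rw [hM']; exact hk)
  have n1 := fun k (hk : k < 6) => alt_ne_one cs h hij (k := k) (by rw [hM]; exact hk)
  have n2 := fun k (hk : k < 6) => alt_ne_one cs h hij.symm (k := k) (by rw [hM']; exact hk)
  have i1 := s1 0 (by norm_num)
  have j1 := s2 0 (by norm_num)
  have i2 := s1 1 (by norm_num)
  have j2 := s2 1 (by norm_num)
  have i3 := s1 2 (by norm_num)
  have j3 := s2 2 (by norm_num)
  have i4 := s1 3 (by norm_num)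
  have j4 := s2 3 (by norm_num)
  have i5 := s1 4 (by norm_num)
  have j5 := s2 4 (by norm_num)
  have i6 := s1 5 (by norm_num)
  have j6 := s2 5 (by norm_num)
  norm_num only at i1 j1 i2 j2 i3 j3 i4 j4 i5 j5 i6 j6
  rw [e0, one_mul] at i1
  rw [e0', one_mul] at j1
  rw [j1] at i2
  rw [i1] at j2
  rw [j2] at i3
  rw [i2] at j3
  rw [j3] at i4
  rw [i3] at j4
  rw [j4] at i5
  rw [i4] at j5
  rw [j5] at i6
  rw [i5] at j6
  refine ⟨?_, ?_, ?_, ?_, ?_, ?_, ?_, ?_⟩
  · rw [← i6, ← j6]
    congr 1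
    have := cs.prod_alternatingWord_eq_prod_alternatingWord_sub j i 6 (by rw [hM']; norm_num)
    rw [this, hM']
  · rw [← i1]; exact trace_T Δ (n1 0 (by norm_num))
  · rw [← j1]; exact trace_T Δ (n2 0 (by norm_num))
  · rw [← j2]; exact trace_T Δ (n2 1 (by norm_num))
  · rw [← j3]; exact trace_T Δ (n2 2 (by norm_num))
  · rw [← j4]; exact trace_T Δ (n2 3 (by norm_num))
  · rw [← j5]; exact trace_T Δ (n2 4 (by norm_num))
  · rw [← j6]; exact trace_T Δ (n2 5 (by norm_num))

end Ops

section Traces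

variable {C : Type*} [Fintype C] {a b : Matrix C C ℂ}

theorem trace_e (ta : a.trace = 0) : (1 + a).trace = Fintype.card C := by
  rw [Matrix.trace_add, Matrix.trace_one, ta, add_zero]

theorem trace_eb (tb : b.trace = 0) (tab : (a * b).trace = 0) : ((1 + a) * b).trace = 0 := by
  rw [add_mul, one_mul, Matrix.trace_add, tb, tab, add_zero]

theorem sq_eb (hb : b * b = 3 + 2 * b) :
    (1 + a) * b * ((1 + a) * b) = 3 * (1 + a) + 2 * ((1 + a) * b) + (1 + a) * b * a * b := by
  linear_combination (norm := noncomm_ring) (1 + a) * hb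

theorem trace_ebab (t3 : (b * a * b).trace = 0) (t4 : (a * b * a * b).trace = 0) : ((1 + a) * b * a * b).trace = 0 := by
  have e : (1 + a) * b * a * b = b * a * b + a * b * a * b := by noncomm_ring
  rw [e, Matrix.trace_add, t3, t4, add_zero]

theorem trace_three (x : Matrix C C ℂ) : (3 * x).trace = 3 * x.trace := by
  have e : (3 : Matrix C C ℂ) * x = x + x + x := by noncomm_ring
  rw [e, Matrix.trace_add, Matrix.trace_add]
  ring

theorem trace_two (x : Matrix C C ℂ) : (2 * x).trace = 2 * x.trace := by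
  rw [two_mul, Matrix.trace_add]
  ring

theorem trace_sq (hb : b * b = 3 + 2 * b) (ta : a.trace = 0) (tb : b.trace = 0) (tab : (a * b).trace = 0)
    (t3 : (b * a * b).trace = 0) (t4 : (a * b * a * b).trace = 0) :
    ((1 + a) * b * ((1 + a) * b)).trace = 3 * Fintype.card C := by
  rw [sq_eb hb, Matrix.trace_add, Matrix.trace_add, trace_three, trace_two, trace_e ta, trace_eb tb tab,
    trace_ebab t3 t4]
  ring

theorem trace_cb (ha : a * a = 3 + 2 * a) (hb : b * b = 3 + 2 * b) (ta : a.trace = 0) (tb : b.trace = 0)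
    (tab : (a * b).trace = 0) (t3 : (b * a * b).trace = 0) (t4 : (a * b * a * b).trace = 0)
    (t5 : (b * a * b * a * b).trace = 0) (t6 : (a * b * a * b * a * b).trace = 0) :
    ((1 + a) * b * ((1 + a) * b * ((1 + a) * b))).trace = 6 * Fintype.card C := by
  have e1 : (1 + a) * b * ((1 + a) * b * ((1 + a) * b)) = 3 * ((1 + a) * b * (1 + a)) +
      2 * ((1 + a) * b * ((1 + a) * b)) + (3 * (3 * ((1 + a) * b)) + 2 * ((1 + a) * b * a * b) +
        (b * a * b * a * b + a * b * a * b * a * b)) := by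
    linear_combination (norm := noncomm_ring) (1 + a) * b * (1 + a) * hb + 2 * ((1 + a) * hb * (b - b)) +
      (1 + a) * hb * (a * b) + 3 * (HexAlg.ea ha * b)
  have e2 : ((1 + a) * b * (1 + a)).trace = 0 := by
    rw [Matrix.trace_mul_comm, ← mul_assoc, HexAlg.ee ha]
    have e3 : (4 : Matrix C C ℂ) * (1 + a) * b = 2 * (2 * ((1 + a) * b)) := by noncomm_ring
    rw [e3, trace_two, trace_two, trace_eb tb tab, mul_zero, mul_zero]
  rw [e1, Matrix.trace_add, Matrix.trace_add, trace_three, trace_two, e2, trace_sq hb ta tb tab t3 t4,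
    Matrix.trace_add, Matrix.trace_add, trace_three, trace_three, trace_eb tb tab, trace_two, trace_ebab t3 t4,
    Matrix.trace_add, t5, t6]
  ring

end Traces

section Col

variable {C X : Type*} [Fintype C] [Fintype X] (N : C → X)

/-- the incidence matrix of chambers and panels -/
noncomputable def J : Matrix C X ℂ := Matrix.of fun c x => if N c = x then 1 else 0

theorem J_apply (c : C) (x : X) : J N c x = if N c = x then 1 else 0 := rfl

theorem J_mul_transpose (c d : C) : (J N * (J N).transpose) c d = if N c = N d then 1 else 0 := by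
  rw [Matrix.mul_apply]
  have key : ∀ x, J N c x * (J N).transpose x d = if x = N c then (if N c = N d then 1 else 0) else 0 := by
    intro x
    show (if N c = x then (1 : ℂ) else 0) * (if N d = x then 1 else 0) = _
    by_cases h : x = N c
    · subst h
      simp [eq_comm]
    · rw [if_neg h, if_neg (Ne.symm h), zero_mul]
  rw [Finset.sum_congr rfl fun x _ => key x, Finset.sum_ite_eq' Finset.univ (N c), if_pos (Finset.mem_univ _)]

theorem transpose_mul_J (x y : X) : ((J N).transpose * J N) x y =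
    if x = y then (Nat.card {c // N c = x} : ℂ) else 0 := by
  rw [Matrix.mul_apply]
  have key : ∀ c, (J N).transpose x c * J N c y = if N c = x ∧ N c = y then 1 else 0 := by
    intro c
    show (if N c = x then (1 : ℂ) else 0) * (if N c = y then 1 else 0) = _
    by_cases h : N c = x
    · by_cases h' : N c = y
      · rw [if_pos h, if_pos h', if_pos (⟨h, h'⟩ : N c = x ∧ N c = y), one_mul]
      · simp [h']
    · simp [h]
  rw [Finset.sum_congr rfl fun c _ => key c, Finset.sum_boole]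
  by_cases h : x = y
  · subst h
    rw [if_pos rfl, Nat.card_eq_fintype_card, Fintype.card_subtype]
    congr 2
    ext c
    simp
  · rw [if_neg h]
    have h1 : (Finset.univ.filter fun c => N c = x ∧ N c = y) = ∅ := by
      ext c
      simp only [Finset.mem_filter, Finset.mem_univ, true_and, Finset.notMem_empty, iff_false]
      rintro ⟨rfl, h2⟩
      exact h h2
    rw [h1, Finset.card_empty, Nat.cast_zero]

theorem lit {C : Type*} [Fintype C] (n : ℕ) [n.AtLeastTwo] (x : Matrix C C ℂ) :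
    (ofNat(n) : Matrix C C ℂ) * x = (ofNat(n) : ℂ) • x := by
  rw [← Nat.cast_ofNat (R := Matrix C C ℂ), ← nsmul_eq_mul, ← Nat.cast_smul_eq_nsmul ℂ, Nat.cast_ofNat]

/-- the relation and the traces for `J ᵀ b J` -/
theorem op (a b : Matrix C C ℂ) (ha : a * a = 3 + 2 * a) (hb : b * b = 3 + 2 * b)
    (hab : b * a * b * a * b * a = a * b * a * b * a * b) (ta : a.trace = 0) (tb : b.trace = 0)
    (tab : (a * b).trace = 0) (t3 : (b * a * b).trace = 0) (t4 : (a * b * a * b).trace = 0)
    (t5 : (b * a * b * a * b).trace = 0) (t6 : (a * b * a * b * a * b).trace = 0)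
    (j : Matrix C X ℂ) (k : Matrix X C ℂ)
    (hJ : j * k = 1 + a) (hJ' : k * j = (4 : ℂ) • 1) :
    ∃ x : Matrix X X ℂ, x = k * b * j ∧
      x * (x * (x * x)) - (12 : ℂ) • (x * (x * x)) - (21 : ℂ) • (x * x) + (232 : ℂ) • x + (240 : ℂ) • 1 = 0 ∧
      x.trace = 0 ∧ (x * x).trace = 12 * Fintype.card X ∧ (x * (x * x)).trace = 24 * Fintype.card X := by
  obtain ⟨x, hx⟩ : ∃ x, x = k * b * j := ⟨_, rfl⟩
  obtain ⟨y, hy⟩ : ∃ y, y = (1 + a) * b := ⟨_, rfl⟩
  have h1 : j * x = y * j := by
    rw [hx, hy, ← hJ, ← Matrix.mul_assoc, ← Matrix.mul_assoc]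
  have h2 : (1 + a) * j = (4 : ℂ) • j := by
    rw [← hJ, Matrix.mul_assoc, hJ', Matrix.mul_smul, Matrix.mul_one]
  have hk : k * (1 + a) = (4 : ℂ) • k := by
    rw [← hJ, ← Matrix.mul_assoc, hJ', Matrix.smul_mul, Matrix.one_mul]
  have step : ∀ z : Matrix X X ℂ, j * (x * z) = y * (j * z) := by
    intro z
    rw [← Matrix.mul_assoc, h1, Matrix.mul_assoc]
  have hcard : (Fintype.card C : ℂ) = 4 * Fintype.card X := by
    rw [← trace_e ta, ← hJ, Matrix.trace_mul_comm, hJ', Matrix.trace_smul, Matrix.trace_one, smul_eq_mul]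
  have tr : ∀ z : Matrix X X ℂ, (4 : ℂ) * z.trace = (j * z * k).trace := by
    intro z
    rw [Matrix.trace_mul_comm, ← Matrix.mul_assoc, hJ', Matrix.smul_mul, Matrix.one_mul, Matrix.trace_smul, smul_eq_mul]
  have t1 : x.trace = 0 := by
    rw [hx, Matrix.trace_mul_comm, ← Matrix.mul_assoc, hJ, trace_eb tb tab]
  have t2 : (x * x).trace = 12 * Fintype.card X := by
    have e : (x * x).trace = ((1 + a) * b * ((1 + a) * b)).trace := by
      conv_lhs => rw [hx]
      rw [Matrix.mul_assoc, Matrix.mul_assoc, Matrix.trace_mul_comm, ← hx, h1, hy]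
      rw [Matrix.mul_assoc b, Matrix.mul_assoc ((1 + a) * b), hJ, Matrix.trace_mul_comm, ← Matrix.mul_assoc]
    rw [e, trace_sq hb ta tb tab t3 t4, hcard]
    ring
  have t3' : (x * (x * x)).trace = 24 * Fintype.card X := by
    have e : (x * (x * x)).trace = ((1 + a) * b * ((1 + a) * b * ((1 + a) * b))).trace := by
      conv_lhs => rw [hx]
      rw [Matrix.mul_assoc, Matrix.mul_assoc, Matrix.trace_mul_comm, ← hx, step, h1, hy]
      rw [Matrix.mul_assoc b, Matrix.mul_assoc ((1 + a) * b), Matrix.mul_assoc ((1 + a) * b), hJ,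
        Matrix.trace_mul_comm]
      congr 1
      noncomm_ring
    rw [e, trace_cb ha hb ta tb tab t3 t4 t5 t6, hcard]
    ring
  refine ⟨x, hx, ?_, t1, t2, t3'⟩
  -- the relation
  have hrel := HexAlg.rel ha hb hab
  rw [← hy] at hrel
  simp only [lit] at hrel
  have h3 : (4 : ℂ) • (j * (x * (x * (x * x)) - (12 : ℂ) • (x * (x * x)) - (21 : ℂ) • (x * x) + (232 : ℂ) • x +
      (240 : ℂ) • 1)) = 0 := by
    have h4 := congrArg (fun m : Matrix C C ℂ => m * j) hrel
    simp only [Matrix.zero_mul, Matrix.add_mul, Matrix.sub_mul, Matrix.smul_mul, Matrix.mul_assoc] at h4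
    have h2' : j + a * j = (4 : ℂ) • j := by rw [← h2, Matrix.add_mul, Matrix.one_mul]
    simp only [Matrix.one_mul, h2', Matrix.mul_smul] at h4
    rw [← h4]
    simp only [Matrix.mul_add, Matrix.mul_sub, Matrix.mul_smul, step, h1, Matrix.mul_one, smul_add, smul_sub]
    simp only [smul_comm (4 : ℂ)]
  have h5 : j * (x * (x * (x * x)) - (12 : ℂ) • (x * (x * x)) - (21 : ℂ) • (x * x) + (232 : ℂ) • x +
      (240 : ℂ) • 1) = 0 := (smul_eq_zero.1 h3).resolve_left (by norm_num)
  have h6 := congrArg (fun m => k * m) h5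
  simp only [Matrix.mul_zero] at h6
  rw [← Matrix.mul_assoc, hJ', Matrix.smul_mul, Matrix.one_mul] at h6
  exact (smul_eq_zero.1 h6).resolve_left (by norm_num)

end Col

section Idem

open Cfsg Cfsg.Agent.H996.Deg.IrrRank MulAction

variable {X : Type*} [Fintype X]

/-- the four idempotents -/
noncomputable def Q (x : Matrix X X ℂ) : Fin 4 → Matrix X X ℂ :=
  ![(1 / 1456 : ℂ) • (x * (x * x) - (21 : ℂ) • x - (20 : ℂ) • 1),
    (-1 / 378 : ℂ) • (x * (x * x) - (7 : ℂ) • (x * x) - (56 : ℂ) • x - (48 : ℂ) • 1),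
    (1 / 234 : ℂ) • (x * (x * x) - (13 : ℂ) • (x * x) - (8 : ℂ) • x + (240 : ℂ) • 1),
    (-1 / 432 : ℂ) • (x * (x * x) - (16 : ℂ) • (x * x) + (43 : ℂ) • x + (60 : ℂ) • 1)]

theorem sum_Q (x : Matrix X X ℂ) : ∑ k, Q x k = 1 := by
  rw [Fin.sum_univ_four]
  simp only [Q, Matrix.cons_val]
  module

/-- an eigenvector of the left multiplication -/
theorem idem_aux {x s : Matrix X X ℂ} {t c : ℂ} {c2 c1 c0 : ℂ} (hs : s = x * (x * x) + c2 • (x * x) + c1 • x + c0 • 1)
    (h : x * s = t • s) (hc : c * (t * (t * t) + c2 * (t * t) + c1 * t + c0) = 1) : (c • s) * (c • s) = c • s := by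
  have h1 : s * s = (t * (t * t) + c2 * (t * t) + c1 * t + c0) • s := by
    have e : s * s = (x * (x * x) + c2 • (x * x) + c1 • x + c0 • 1) * s := by rw [← hs]
    rw [e]
    simp only [Matrix.add_mul, Matrix.smul_mul, Matrix.mul_assoc, h, Matrix.mul_smul, Matrix.one_mul, smul_smul]
    module
  rw [Matrix.smul_mul, Matrix.mul_smul, h1, smul_smul, smul_smul, mul_assoc, hc, mul_one]

theorem idem_Q {x : Matrix X X ℂ} (h : x * (x * (x * x)) - (12 : ℂ) • (x * (x * x)) - (21 : ℂ) • (x * x) +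
    (232 : ℂ) • x + (240 : ℂ) • 1 = 0) (k : Fin 4) : Q x k * Q x k = Q x k := by
  have h' : x * (x * (x * x)) = (12 : ℂ) • (x * (x * x)) + (21 : ℂ) • (x * x) - (232 : ℂ) • x - (240 : ℂ) • 1 := by
    rw [← sub_eq_zero, ← h]
    module
  fin_cases k
  · refine idem_aux (x := x) (t := 12) (c2 := 0) (c1 := -21) (c0 := -20) ?_ ?_ (by norm_num)
    · module
    · simp only [Matrix.mul_sub, Matrix.mul_smul, Matrix.mul_one, h']
      module
  · refine idem_aux (x := x) (t := 5) (c2 := -7) (c1 := -56) (c0 := -48) ?_ ?_ (by norm_num)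
    · module
    · simp only [Matrix.mul_sub, Matrix.mul_smul, Matrix.mul_one, h']
      module
  · refine idem_aux (x := x) (t := -1) (c2 := -13) (c1 := -8) (c0 := 240) ?_ ?_ (by norm_num)
    · module
    · simp only [Matrix.mul_sub, Matrix.mul_add, Matrix.mul_smul, Matrix.mul_one, h']
      module
  · refine idem_aux (x := x) (t := -4) (c2 := -16) (c1 := 43) (c0 := 60) ?_ ?_ (by norm_num)
    · module
    · simp only [Matrix.mul_sub, Matrix.mul_add, Matrix.mul_smul, Matrix.mul_one, h']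
      module

theorem trace_Q {x : Matrix X X ℂ} (t1 : x.trace = 0) (t2 : (x * x).trace = 12 * Fintype.card X)
    (t3 : (x * (x * x)).trace = 24 * Fintype.card X) :
    (Q x 0).trace = (Fintype.card X : ℂ) / 364 ∧ (Q x 1).trace = 104 * ((Fintype.card X : ℂ) / 364) ∧
    (Q x 2).trace = 168 * ((Fintype.card X : ℂ) / 364) ∧ (Q x 3).trace = 91 * ((Fintype.card X : ℂ) / 364) := by
  refine ⟨?_, ?_, ?_, ?_⟩ <;>
  · simp only [Q, Matrix.cons_val, Matrix.trace_smul, Matrix.trace_sub, Matrix.trace_add, t1, t2, t3, Matrix.trace_one,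
      smul_eq_mul]
    ring

/-- **The degrees of the constituents** -/
theorem degrees {G : Type*} [Group G] [Fintype G] [MulAction G X] [Nonempty X] {x : Matrix X X ℂ} (hx : Inv G x)
    (h : x * (x * (x * x)) - (12 : ℂ) • (x * (x * x)) - (21 : ℂ) • (x * x) + (232 : ℂ) • x + (240 : ℂ) • 1 = 0)
    (t1 : x.trace = 0) (t2 : (x * x).trace = 12 * Fintype.card X) (t3 : (x * (x * x)).trace = 24 * Fintype.card X)
    (hr : Nat.card (orbitRel.Quotient G (X × X)) ≤ 4) :
    ∃ d : ℕ, Fintype.card X = 364 * d ∧ d ≠ 0 ∧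
      ∀ m ∈ ({1, 104, 168, 91} : Finset ℕ), ∃ χ : IrrCharacter G, charDegree (χ : G → ℂ) = m * d := by
  obtain ⟨q0, q1, q2, q3⟩ := trace_Q t1 t2 t3
  have hX : (Fintype.card X : ℂ) ≠ 0 := by exact_mod_cast Fintype.card_ne_zero
  have hX' : (Fintype.card X : ℂ) / 364 ≠ 0 := div_ne_zero hX (by norm_num)
  have hinv : ∀ k, Inv G (Q x k) := by
    intro k
    have h2 := hx.mul hx
    have h3 := hx.mul h2
    have h1 : Inv G (1 : Matrix X X ℂ) := Inv.one
    fin_cases k
    · exact (((h3.sub (hx.smul 21)).sub (h1.smul 20)).smul _)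
    · exact ((((h3.sub (h2.smul 7)).sub (hx.smul 56)).sub (h1.smul 48)).smul _)
    · exact ((((h3.sub (h2.smul 13)).sub (hx.smul 8)).add (h1.smul 240)).smul _)
    · exact ((((h3.sub (h2.smul 16)).add (hx.smul 43)).add (h1.smul 60)).smul _)
  have key := exists_irr (G := G) (Q x) hinv (idem_Q h) (by
    intro k
    fin_cases k
    · exact q0 ▸ hX'
    · exact q1 ▸ mul_ne_zero (by norm_num) hX'
    · exact q2 ▸ mul_ne_zero (by norm_num) hX'
    · exact q3 ▸ mul_ne_zero (by norm_num) hX') (sum_Q x) (by rw [Fintype.card_fin]; exact hr)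
  obtain ⟨χ₀, e0⟩ := key 0
  obtain ⟨χ₁, e1⟩ := key 1
  obtain ⟨χ₂, e2⟩ := key 2
  obtain ⟨χ₃, e3⟩ := key 3
  rw [q0] at e0
  rw [q1, ← e0] at e1
  rw [q2, ← e0] at e2
  rw [q3, ← e0] at e3
  refine ⟨charDegree (χ₀ : G → ℂ), ?_, ?_, ?_⟩
  · have h5 : (Fintype.card X : ℂ) = 364 * charDegree (χ₀ : G → ℂ) := by
      rw [e0]; ring
    exact_mod_cast h5
  · intro h5
    rw [h5, Nat.cast_zero] at e0
    exact hX' e0.symm
  · intro m hm
    simp only [Finset.mem_insert, Finset.mem_singleton] at hm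
    rcases hm with rfl | rfl | rfl | rfl
    · exact ⟨χ₀, by rw [one_mul]⟩
    · exact ⟨χ₁, by exact_mod_cast e1⟩
    · exact ⟨χ₂, by exact_mod_cast e2⟩
    · exact ⟨χ₃, by exact_mod_cast e3⟩

end Idem

end Cfsg.Agent.H996.Deg.Hex
end

-- part: H996/Deg/GThree
section
/-!
# The degrees `1, 104, 168, 91` of `G₂(3)` (helper996)

For a group with a split (B,N)-pair of type `G₂` all of whose root groups have order three: the permutation character on
the cosets of a minimal parabolic subgroup has constituents of the degrees `d, 104 d, 168 d, 91 d` (`d = 1`).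
-/

set_option autoImplicit false
set_option linter.unusedSectionVars false
set_option linter.unusedVariables false

namespace Cfsg.Agent.H996.Deg.Bd

open Module Cfsg Cfsg.Agent.Tits.Core Cfsg.Agent.Tits.Core.Bldg Cfsg.Agent.Tits.Exchange Cfsg.Agent.H249 MulAction
  Cfsg.Agent.H996.Deg.CoxPar Cfsg.Agent.H996.Deg.Hk Cfsg.Agent.H996.Deg.Hex Classical
  Cfsg.Agent.ChevalleyStructure.CoxeterGeom CoxeterSystem

universe u v

variable {I : Type*} [DecidableEq I] [Fintype I] {W : Type v} {Y : Type u} {C : Type*} [Group W] [Group Y]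
  {M : CoxeterMatrix I} {cs : CoxeterSystem M W} {p : ℕ} [MulAction Y C] {D : Dat Y I p} {Δ : Bldg cs C} {c : C}

/-- the double cosets of `⟨s⟩` in the dihedral group of order `12` -/
theorem card_DC_le {i j : I} (hI : ∀ k : I, k = i ∨ k = j) (hM : M i j = 6) :
    Nat.card (DC (cs.simple i)) ≤ 4 := by
  obtain ⟨s, hs⟩ : ∃ s, s = cs.simple i := ⟨_, rfl⟩
  obtain ⟨t, ht⟩ : ∃ t, t = cs.simple j := ⟨_, rfl⟩
  have ss : s * s = 1 := by rw [hs, cs.simple_mul_simple_self]
  have tt : t * t = 1 := by rw [ht, cs.simple_mul_simple_self]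
  have br : t * s * t * s * t * s = s * t * s * t * s * t := by
    have h1 := cs.simple_mul_simple_pow i j
    rw [hM, ← hs, ← ht] at h1
    have h2 : (s * t) ^ 3 * (s * t) ^ 3 = 1 := by rw [← pow_add]; exact h1
    have h3 : (s * t) ^ 3 = ((s * t) ^ 3)⁻¹ := mul_eq_one_iff_eq_inv.1 h2
    have si : s⁻¹ = s := inv_eq_of_mul_eq_one_left ss
    have ti : t⁻¹ = t := inv_eq_of_mul_eq_one_left tt
    have h4 : ((s * t) ^ 3)⁻¹ = (t * s) ^ 3 := by rw [← inv_pow, mul_inv_rev, si, ti]
    rw [h4] at h3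
    have e1 : (s * t) ^ 3 = s * t * s * t * s * t := by
      rw [pow_succ, pow_two]; simp only [mul_assoc]
    have e2 : (t * s) ^ 3 = t * s * t * s * t * s := by
      rw [pow_succ, pow_two]; simp only [mul_assoc]
    rw [← e1, ← e2, h3]
  let r : Fin 4 → W := ![1, t, t * s * t, t * s * t * s * t]
  have key : ∀ w : W, ∃ k, ∃ a ∈ Subgroup.zpowers s, ∃ b ∈ Subgroup.zpowers s, w = a * r k * b := by
    intro w
    induction w using cs.simple_induction_right with
    | one => exact ⟨0, 1, one_mem _, 1, one_mem _, by simp [r]⟩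
    | mul_simple_right w k ih =>
      obtain ⟨m, a, ha, b, hb, rfl⟩ := ih
      have hsm := Subgroup.mem_zpowers s
      rcases hI k with rfl | rfl
      · rw [← hs]
        exact ⟨m, a, ha, b * s, mul_mem hb hsm, by group⟩
      · rw [← ht]
        rcases mem_zp ss hb with rfl | rfl
        · fin_cases m
          · exact ⟨1, a, ha, 1, one_mem _, by simp [r]⟩
          · refine ⟨0, a, ha, 1, one_mem _, ?_⟩
            show a * t * 1 * t = a * 1 * 1
            rw [mul_one, mul_one, mul_one, mul_assoc, tt, mul_one]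
          · refine ⟨1, a, ha, s, hsm, ?_⟩
            show a * (t * s * t) * 1 * t = a * t * s
            rw [mul_one, mul_assoc, mul_assoc (t * s), tt, mul_one, mul_assoc]
          · refine ⟨2, a, ha, s, hsm, ?_⟩
            show a * (t * s * t * s * t) * 1 * t = a * (t * s * t) * s
            rw [mul_one, mul_assoc, mul_assoc (t * s * t * s), tt, mul_one, mul_assoc a (t * s * t)]
        · fin_cases m
          · refine ⟨1, a * b, mul_mem ha hsm, 1, one_mem _, ?_⟩
            show a * 1 * b * t = a * b * t * 1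
            rw [mul_one, mul_one]
          · refine ⟨2, a, ha, 1, one_mem _, ?_⟩
            show a * t * b * t = a * (t * b * t) * 1
            group
          · refine ⟨3, a, ha, 1, one_mem _, ?_⟩
            show a * (t * b * t) * b * t = a * (t * b * t * b * t) * 1
            group
          · refine ⟨2, a * b, mul_mem ha hsm, b, hsm, ?_⟩
            show a * (t * b * t * b * t) * b * t = a * b * (t * b * t) * b
            calc a * (t * b * t * b * t) * b * t = a * (t * b * t * b * t * b) * t := by group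
              _ = a * (b * t * b * t * b * t) * t := by rw [br]
              _ = a * b * (t * b * t) * b * (t * t) := by group
              _ = _ := by rw [tt, mul_one]
  have hsurj : Function.Surjective (fun k : Fin 4 => (Quotient.mk _ (r k) : DC (cs.simple i))) := by
    intro q
    induction q using Quotient.inductionOn with | _ w => ?_
    obtain ⟨k, a, ha, b, hb, e⟩ := key w
    refine ⟨k, Quotient.sound (DoubleCoset.rel_iff.2 ⟨a, ?_, b, ?_, e⟩)⟩
    · rw [← hs]; exact ha
    · rw [← hs]; exact hb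
  have h := Nat.card_le_card_of_surjective _ hsurj
  rwa [Nat.card_fin] at h

variable (S : Bd D Δ c)
include S

/-- the chambers adjacent to a chamber -/
theorem card_panel (i : I) (x : C) : Nat.card {y // Δ.δ x y = cs.simple i} = Nat.card (D.X i) := by
  obtain ⟨g, rfl⟩ := S.trans x
  symm
  refine Nat.card_congr (Equiv.ofBijective
    (fun u : D.X i => (⟨(g * (u * D.n i)) • c, by
      rw [mul_smul, S.iso, mul_smul, S.δ_B (D.U_le_B (D.XU i u.2)), S.n]⟩ : {y // Δ.δ (g • c) y = cs.simple i}))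
    ⟨?_, ?_⟩)
  · rintro ⟨u, hu⟩ ⟨v, hv⟩ h
    have h1 : (g * (u * D.n i)) • c = (g * (v * D.n i)) • c := congrArg Subtype.val h
    have h2 : (D.n i)⁻¹ * (u⁻¹ * v) * D.n i ∈ D.B := by
      rw [S.B]
      have e : (D.n i)⁻¹ * (u⁻¹ * v) * D.n i = (g * (u * D.n i))⁻¹ * (g * (v * D.n i)) := by group
      rw [e, mul_smul, ← h1, inv_smul_smul]
    have h3 := D.nX i _ (mul_mem (inv_mem hu) hv) h2
    exact Subtype.ext (inv_mul_eq_one.1 h3)
  · rintro ⟨y, hy⟩
    obtain ⟨k, rfl⟩ := S.trans y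
    have h1 : Δ.δ c ((g⁻¹ * k) • c) = cs.simple i := by
      rw [mul_smul, S.δ_smul, inv_inv]; exact hy
    have h2 : g⁻¹ * k ∉ D.B := by
      intro h3
      rw [(S.B _).1 h3, Δ.δ_self] at h1
      have := cs.length_simple i
      rw [← h1, cs.length_one] at this
      omega
    obtain ⟨b₁, hb₁, b₂, hb₂, e⟩ := D.mem_P i (S.mem_P_of h1) h2
    obtain ⟨t, ht, u, hu, rfl⟩ := D.mem_B.1 hb₁
    have hu' : t * u * t⁻¹ ∈ D.U := D.TU t ht u hu
    obtain ⟨v, hv, z, hz, e2⟩ := D.mul i _ (inv_mem hu')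
    refine ⟨⟨z⁻¹, inv_mem hz⟩, Subtype.ext ?_⟩
    show (g * (z⁻¹ * D.n i)) • c = k • c
    have e3 : k = g * (z⁻¹ * D.n i) * (((D.n i)⁻¹ * v⁻¹ * D.n i) * ((D.n i)⁻¹ * t * D.n i) * b₂) := by
      have e4 : t * u * t⁻¹ = z⁻¹ * v⁻¹ := by rw [← mul_inv_rev, ← e2, inv_inv]
      have e5 : k = g * (g⁻¹ * k) := by group
      rw [e5, e]
      have e6 : t * u = z⁻¹ * v⁻¹ * t := by rw [← e4]; group
      rw [e6]; group
    have h5 : ((D.n i)⁻¹ * v⁻¹ * D.n i) * ((D.n i)⁻¹ * t * D.n i) * b₂ ∈ D.B := by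
      refine mul_mem (mul_mem ?_ ?_) hb₂
      · exact D.U_le_B (D.QU i (D.nQ' i _ (inv_mem hv)))
      · have := D.NT (D.n i)⁻¹ (inv_mem (D.nN i)) t ht
        rw [inv_inv] at this
        exact D.T_le_B this
    conv_rhs => rw [e3, mul_smul, (S.B _).1 h5]

/-- the panel of a chamber -/
noncomputable def pn (S : Bd D Δ c) (i : I) (y : C) : Y ⧸ D.P i := ((S.trans y).choose : Y ⧸ D.P i)

theorem pn_smul (i : I) (g : Y) : S.pn i (g • c) = (g : Y ⧸ D.P i) := by
  unfold pn
  rw [QuotientGroup.eq]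
  have h := (S.trans (g • c)).choose_spec
  generalize (S.trans (g • c)).choose = k at h ⊢
  refine D.B_le_P i ((S.B _).2 ?_)
  rw [mul_smul, ← h, inv_smul_smul]

theorem pn_eq_iff (i : I) (y z : C) : S.pn i y = S.pn i z ↔ Δ.δ y z = 1 ∨ Δ.δ y z = cs.simple i := by
  obtain ⟨g, rfl⟩ := S.trans y
  obtain ⟨k, rfl⟩ := S.trans z
  rw [S.pn_smul, S.pn_smul, QuotientGroup.eq]
  have e : Δ.δ (g • c) (k • c) = Δ.δ c ((g⁻¹ * k) • c) := by
    rw [mul_smul, S.δ_smul, inv_inv]
  rw [e]
  constructor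
  · exact fun h => S.P_stab h
  · rintro (h | h)
    · refine D.B_le_P i ((S.B _).2 ?_)
      exact ((Δ.eq_one _ _).1 h).symm
    · exact S.mem_P_of h

theorem pn_equi (i : I) (g : Y) (y : C) : S.pn i (g • y) = g • S.pn i y := by
  obtain ⟨k, rfl⟩ := S.trans y
  rw [← mul_smul, S.pn_smul, S.pn_smul]
  rfl

/-- **The degrees of the constituents of `1_P^G`**, type `G₂`, root groups of order three -/
theorem degrees {A : I → I → ℤ} (h : IsCartan M A) [Fintype Y] [Fintype C] {i j : I} (hij : i ≠ j)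
    (hM : M i j = 6) (hi : Nat.card (D.X i) = 3) (hj : Nat.card (D.X j) = 3) (hdc : Nat.card (DC (cs.simple i)) ≤ 4) :
    ∃ d : ℕ, (D.P i).index = 364 * d ∧ d ≠ 0 ∧
      ∀ m ∈ ({1, 104, 168, 91} : Finset ℕ), ∃ χ : IrrCharacter Y, charDegree (χ : Y → ℂ) = m * d := by
  have : Fintype (Y ⧸ D.P i) := Fintype.ofFinite _
  obtain ⟨hab, ta, tb, tab, t3, t4, t5, t6⟩ := rels h Δ hij hM
  have hcast : ∀ x : Matrix C C ℂ, ((3 : ℕ) : ℂ) • (1 : Matrix C C ℂ) + (((3 : ℕ) : ℂ) - 1) • x = 3 + 2 * x := by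
    intro x
    have e1 : (3 : Matrix C C ℂ) = (3 : ℂ) • 1 := by rw [← lit, mul_one]
    rw [lit, e1]
    norm_num
  have ha := T_sq Δ (i := i) (q := 3) (fun x => by rw [S.card_panel, hi])
  have hb := T_sq Δ (i := j) (q := 3) (fun x => by rw [S.card_panel, hj])
  rw [hcast] at ha hb
  have hJ : J (S.pn i) * (J (S.pn i)).transpose = 1 + T Δ (cs.simple i) := by
    ext y z
    rw [J_mul_transpose, Matrix.add_apply, Matrix.one_apply, T_apply]
    have hs1 : cs.simple i ≠ 1 := by
      intro h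
      have := cs.length_simple i
      rw [h, cs.length_one] at this
      exact absurd this (by norm_num)
    simp only [S.pn_eq_iff]
    by_cases h1 : y = z
    · subst h1
      rw [Δ.δ_self, if_pos (Or.inl rfl), if_pos rfl, if_neg (Ne.symm hs1), add_zero]
    · have h2 : Δ.δ y z ≠ 1 := fun h => h1 ((Δ.eq_one _ _).1 h)
      rw [if_neg h1, zero_add]
      simp only [h2, false_or]
  have hJ' : (J (S.pn i)).transpose * J (S.pn i) = (4 : ℂ) • 1 := by
    ext x y
    rw [transpose_mul_J, Matrix.smul_apply, Matrix.one_apply]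
    by_cases hxy : x = y
    · subst hxy
      rw [if_pos rfl, if_pos rfl, smul_eq_mul, mul_one]
      induction x using QuotientGroup.induction_on with
      | _ g =>
      have e1 : Nat.card {y // S.pn i y = (g : Y ⧸ D.P i)} = 4 := by
        have e2 : ∀ y, S.pn i y = (g : Y ⧸ D.P i) ↔ y ∈ insert (g • c) {y | Δ.δ (g • c) y = cs.simple i} := by
          intro y
          rw [← S.pn_smul, eq_comm, S.pn_eq_iff, Set.mem_insert_iff, Δ.eq_one, eq_comm]
          rfl
        have e3 : Nat.card {y // S.pn i y = (g : Y ⧸ D.P i)} =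
            (insert (g • c) {y | Δ.δ (g • c) y = cs.simple i} : Set C).ncard := by
          rw [← Nat.card_coe_set_eq]
          exact Nat.card_congr (Equiv.subtypeEquivRight e2)
        rw [e3, Set.ncard_insert_of_notMem, ← Nat.card_coe_set_eq]
        · have h6 := S.card_panel i (g • c)
          rw [hi] at h6
          have h7 : Nat.card ↑{y | Δ.δ (g • c) y = cs.simple i} = 3 := h6
          rw [h7]
        · intro h1
          have h2 : Δ.δ (g • c) (g • c) = cs.simple i := h1
          rw [Δ.δ_self] at h2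
          have := cs.length_simple i
          rw [← h2, cs.length_one] at this
          omega
      rw [e1]
      norm_num
    · rw [if_neg hxy, if_neg hxy, smul_zero]
  obtain ⟨x, hx, hrel, x1, x2, x3⟩ := Hex.op (T Δ (cs.simple i)) (T Δ (cs.simple j)) ha hb hab ta tb tab t3 t4 t5 t6
    (J (S.pn i)) (J (S.pn i)).transpose hJ (by convert hJ')
  have hJg : ∀ (g : Y) (f : C) (y : Y ⧸ D.P i), J (S.pn i) (g • f) (g • y) = J (S.pn i) f y := by
    intro g f y
    rw [J_apply, J_apply]
    by_cases h1 : S.pn i f = y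
    · rw [if_pos h1, if_pos (by rw [S.pn_equi, h1])]
    · rw [if_neg h1, if_neg (fun h2 => h1 (by rw [S.pn_equi] at h2; exact smul_left_cancel g h2))]
  have hinv : IrrRank.Inv Y x := by
    intro g y z
    rw [hx, Matrix.mul_apply, Matrix.mul_apply, ← Equiv.sum_comp (MulAction.toPerm g)]
    refine Finset.sum_congr rfl fun e _ => ?_
    rw [MulAction.toPerm_apply, Matrix.mul_apply, Matrix.mul_apply, ← Equiv.sum_comp (MulAction.toPerm g)]
    congr 1
    · refine Finset.sum_congr rfl fun f _ => ?_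
      rw [MulAction.toPerm_apply, Matrix.transpose_apply, Matrix.transpose_apply, hJg, T_apply, T_apply, S.iso]
    · exact hJg g e z
  obtain ⟨d, h1, h2, h3⟩ := Hex.degrees (G := Y) hinv hrel x1 x2 x3 (by rw [S.card_orbits]; exact hdc)
  refine ⟨d, ?_, h2, h3⟩
  rw [Subgroup.index, Nat.card_eq_fintype_card, h1]

end Cfsg.Agent.H996.Deg.Bd

namespace Cfsg.Agent.H996.Deg.GThree

open Cfsg CoxeterSystem Cfsg.Agent.ChevalleyStructure.CoxeterGeom Cfsg.Agent.Tits.Roots Cfsg.Agent.Tits.Core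
  Cfsg.Agent.Tits.Exchange Cfsg.Agent.Nodes.Reps Cfsg.Agent.Nodes.BNOf Cfsg.Agent.Nodes.StabComb
  Cfsg.Agent.Nodes.Bruhat Cfsg.Agent.Nodes.OppDec Cfsg.Agent.Nodes.LeviDec Cfsg.Agent.H167.SteinbergRGD
open Cfsg.Agent.H249.OfRGD

section RGD

variable {I W Y : Type*} [Fintype I] [DecidableEq I] [Group W] [Group Y] {M : CoxeterMatrix I}
  {cs : CoxeterSystem M W} {A : I → I → ℤ} {h : IsCartan M A} {p : ℕ} {T : Subgroup Y} {n : I → Y}
  {X : (I → ℤ) → Subgroup Y}

theorem degrees_of_rgd (R : RGD cs h p T n X) [Finite W] [Fintype Y] (hp : p.Prime) (hG : GG cs h T X = ⊤)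
    {i j : I} (hij : i ≠ j) (hI : ∀ k : I, k = i ∨ k = j) (hM : M i j = 6)
    (hX : ∀ i, Nat.card (X (sr i)) = 3) :
    ∃ d : ℕ, ((dat R hp hG).P i).index = 364 * d ∧ d ≠ 0 ∧
      ∀ m ∈ ({1, 104, 168, 91} : Finset ℕ), ∃ χ : IrrCharacter Y, charDegree (χ : Y → ℂ) = m * d := by
  obtain ⟨Δ, S⟩ := exists_bd R hp hG
  have := Fintype.ofFinite (Y ⧸ RGD.B cs h T X)
  exact S.degrees h hij hM (hX i) (hX j) (Bd.card_DC_le hI hM)

end RGD

section G2

open Cfsg.Agent.Nodes Cfsg.Agent.Nodes.RGDChev Cfsg.Agent.ChevalleyStructure Cfsg.Agent.ChevalleyStructure.Elts Cfsg.Lie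

universe u

theorem card_rootSubgroup {D : ChevalleyDatum} {l : ℕ} {M : CoxeterMatrix (Fin l)} (hp : IsType D l M) {K : Type u}
    [Field K] {r : ℕ} (hr : r < D.nroots) : Nat.card (D.rootSubgroup K r) = Nat.card K := by
  symm
  refine Nat.card_congr (Equiv.ofBijective
    (fun t => (⟨xG hp.inList r t, xG_mem_rootSubgroup hp.inList r t⟩ : D.rootSubgroup K r)) ⟨?_, ?_⟩)
  · intro a b hab
    exact xG_injective hp.inList hr (congrArg Subtype.val hab)
  · rintro ⟨g, hg⟩
    obtain ⟨t, ht⟩ := (mem_rootSubgroup_iff hp.inList r g).1 hg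
    exact ⟨t, Subtype.ext ht.symm⟩

/-- **Irreducible characters of the degrees `1, 104, 168, 91` (times `d`)** of `G₂(K)`, `|K| = 3` -/
theorem degrees_G2 {K : Type u} [Field K] [Finite K] (hK : Nat.card K = 3) :
    ∃ d : ℕ, d ≠ 0 ∧ ∀ m ∈ ({1, 104, 168, 91} : Finset ℕ), ∃ χ : IrrCharacter ↥(chevG2.group K),
      charDegree (χ : ↥(chevG2.group K) → ℂ) = m * d := by
  have : Fintype K := Fintype.ofFinite K
  obtain ⟨p, hch⟩ := CharP.exists K
  have : Fact p.Prime := ⟨CharP.char_is_prime K p⟩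
  have hp : IsType chevG2 2 CoxeterMatrix.G₂ := by simp [IsType, typeList]
  have hfin : Finite ↥(chevG2.group K) := inferInstance
  have := Fintype.ofFinite ↥(chevG2.group K)
  have hW := finite_W hp CoxeterMatrix.G₂.toCoxeterSystem
  have R := rgd (K := K) hp CoxeterMatrix.G₂.toCoxeterSystem p
  have hG : GG CoxeterMatrix.G₂.toCoxeterSystem hp.isCartan ((chevG2.diagonalSubgroup K).subgroupOf (chevG2.group K))
      (fun x => (XV chevG2 2 K x).subgroupOf (chevG2.group K)) = ⊤ := by
    rw [eq_top_iff, ← G1_eq_top hp CoxeterMatrix.G₂.toCoxeterSystem]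
    exact le_sup_right
  obtain ⟨d, -, h1, h2⟩ := degrees_of_rgd R Fact.out hG (i := 0) (j := 1) (by decide) (by decide) (by decide) (by
    intro i
    rw [XV_sr hp, Nat.card_congr (Subgroup.subgroupOfEquivOfLe ?_).toEquiv,
      card_rootSubgroup hp (NPerm.simple_lt hp.inList (lt_rank hp i)), hK]
    rw [← XV_sr hp]
    exact XV_le_group hp _)
  exact ⟨d, h1, h2⟩

/-- **the edge `3 - 2` of the degree graph of `G₂(3)`** -/
theorem adj_three_two {K : Type u} [Field K] [Finite K] (hK : Nat.card K = 3) :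
    H671.H5.Adj 3 2 ↥(chevG2.group K) := by
  obtain ⟨d, h1, h2⟩ := degrees_G2 hK
  obtain ⟨χ, hχ⟩ := h2 168 (by decide)
  exact ⟨by norm_num, Nat.prime_three, Nat.prime_two, _, ⟨χ, rfl⟩, by
    show 3 * 2 ∣ charDegree (χ : ↥(chevG2.group K) → ℂ)
    rw [hχ]
    exact Dvd.intro (28 * d) (by ring)⟩

end G2

end Cfsg.Agent.H996.Deg.GThree
end

private theorem dce_bec341c625e1 : _root_.True := by
  try have : _root_.True := by simp only [_root_.Cfsg.Agent.H996.Deg.IrrRank.ch.eq_1]
  try have : _root_.True := by simp only [_root_.Cfsg.Agent.H996.Deg.Bd.pn.congr_simp]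
  try have : _root_.True := by simp only [_root_.Cfsg.Agent.H996.Deg.Hex.Q.eq_1]
  exact _root_.True.intro
end
end
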