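import Mathlib
import Cfsg.Agent.H996.Deg.GThree
import Cfsg.Agent.H996.Deg.RgdEdge
import Cfsg.Agent.KFacts.RgdFiltChev
import Cfsg.Agent.KFacts.RgdFiltClass
import Cfsg.Agent.H400.LieLocal
import Cfsg.Agent.OddHalf.Small.ChevCent
import Cfsg.Agent.S1054
import Cfsg.Agent.Prune
set_option linter.all false
prune_inst 0x7f00000000000000000000000000000000000000000000000000000000000000000000000000000000000000000000000000000000000000000000000000000000000000000000000000000000000000003fffffffffffffffffffffffffffbeffbdffffffff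
open scoped Cfsg.Agent.FastGrp

/-!
# The edge `2 - l` for `Sp_{2m}(2)`, `m ≥ 3`, and `F₄(2)` (helper996)

* `adj_of_rgd` : a simple group with a root group datum in characteristic two, abelian torus and a `B₃`-subdiagram;
* `adj_PSp` : `PSp m F`, `F` of characteristic two, `3 ≤ m`;
* `adj_F4` : `F₄(F)`, `F` of characteristic two.
-/

set_option autoImplicit false
set_option linter.unusedSectionVars false
set_option linter.unusedVariables false

namespace Cfsg.Agent.H996.Deg.Two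

open Cfsg CoxeterSystem Cfsg.Agent.ChevalleyStructure.CoxeterGeom Cfsg.Agent.Tits.Roots Cfsg.Agent.Tits.Core
  Cfsg.Agent.Tits.Exchange Cfsg.Agent.Nodes.Reps Cfsg.Agent.Nodes.BNOf Cfsg.Agent.Nodes.StabComb
  Cfsg.Agent.Nodes.Bruhat Cfsg.Agent.Nodes.OppDec Cfsg.Agent.Nodes.LeviDec Cfsg.Agent.H167.SteinbergRGD
open Cfsg.Agent.H249.OfRGD

universe u v

section RGD

variable {I : Type*} {W : Type v} {Y : Type u} [Fintype I] [DecidableEq I] [Group W] [Group Y] {M : CoxeterMatrix I}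
  {cs : CoxeterSystem M W} {A : I → I → ℤ} {h : IsCartan M A} {p : ℕ} {T : Subgroup Y} {n : I → Y}
  {X : (I → ℤ) → Subgroup Y}

theorem adj_of_rgd [Finite W] [Finite Y] [IsSimpleGroup Y] (R : RGD cs h 2 T n X) (hG : GG cs h T X = ⊤)
    (hnc : ¬ IsMulCommutative Y) (hT : ∀ s ∈ T, ∀ t ∈ T, s * t = t * s) (hloc : BpLieP.Big.LocChar 2 Y)
    {a b c : I} (hab : M a b = 3) (hbc : M b c = 4) (hac : M a c = 2) :
    ∃ l : ℕ, l.Prime ∧ l ≠ 2 ∧ H671.H5.Adj 2 l Y := by
  have := Fintype.ofFinite Y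
  have hp : Nat.Prime 2 := Nat.prime_two
  have : Fact (Nat.Prime 2) := ⟨hp⟩
  obtain ⟨Δ, S⟩ := exists_bd R hp hG
  have hUi : ¬ 2 ∣ (RGD.Sup X (RGD.Pos cs h)).index := by
    have h1 := KFacts.RgdSyl.not_dvd_relIndex R
    rwa [hG, Subgroup.relIndex_top_right] at h1
  obtain ⟨χ, h1, l, hl, hl2, hld⟩ := S.exists_even_char hnc rfl hT hloc (i := c)
    (fun h2 => hUi (h2.trans (Subgroup.index_dvd_of_le (((dat R hp hG).U_le_B).trans ((dat R hp hG).B_le_P c)))))
    (CoxPar.even_of_B3 cs hab hbc hac)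
  exact ⟨l, hl, hl2, hl2.symm, hp, hl, _, ⟨χ, rfl⟩,
    Nat.Coprime.mul_dvd_of_dvd_of_dvd ((Nat.coprime_primes hp hl).2 hl2.symm) h1 hld⟩

end RGD

theorem not_comm_of_filt {G : Type*} [Group G] [Finite G] [IsSimpleGroup G] (h : KFacts.RgdFilt.HasFilt 2 G) :
    ¬ IsMulCommutative G := by
  have : Fact (Nat.Prime 2) := ⟨Nat.prime_two⟩
  intro hc
  have h1 := H400.LieLocal.center_eq_bot (H400.LieLocal.hasSplit_of_rgd Nat.prime_two h.hasRGD)
  obtain ⟨x, hx⟩ := exists_ne (1 : G)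
  apply hx
  have h2 : x ∈ Subgroup.center G := Subgroup.mem_center_iff.2 fun y => hc.1.1 y x
  rwa [h1, Subgroup.mem_bot] at h2

section Sp

open Cfsg.Agent.Nodes Cfsg.Agent.Nodes.TypeC
open Cfsg.Agent.Nodes.Comb Cfsg.Agent.Nodes.WittRoot
open Cfsg.Agent.Nodes.RGDLib Cfsg.Agent.Nodes.WittAll Cfsg.Agent.Nodes.WittU Cfsg.Agent.Nodes.RGDChev
open Cfsg.Agent.TitsThree Cfsg.Agent.TitsThree.Siegel Cfsg.Agent.TitsThree.SiegelGen
  Cfsg.Agent.TitsThree.WittFrame Cfsg.Agent.TitsThree.WBridge Cfsg.Agent.TitsThree.WittWeyl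
  Cfsg.Agent.TitsThree.FrameCN

theorem T_comm (m : ℕ) (F : Type*) [Field F] :
    ∀ s ∈ WittModel.T (KInstSp.model m F), ∀ t ∈ WittModel.T (KInstSp.model m F), s * t = t * s := by
  rintro _ ⟨⟨s, hs0⟩, hs, rfl⟩ _ ⟨⟨t, ht0⟩, ht, rfl⟩
  have hs' : WittRoot.Mono (SpIdent.frame m F) s id := hs.2
  have ht' : WittRoot.Mono (SpIdent.frame m F) t id := ht.2
  have h1 : s * t = t * s := by
    apply LinearEquiv.toLinearMap_injective
    have hsp := SpIdent.span_ef (m := m) (F := F)
    refine LinearMap.ext_on hsp ?_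
    have key : ∀ x : Fin m × Bool, (s * t) ((SpIdent.frame m F).b x) = (t * s) ((SpIdent.frame m F).b x) := by
      intro x
      obtain ⟨l, -, h2⟩ := hs' x
      obtain ⟨l', -, h3⟩ := ht' x
      simp only [id_eq] at h2 h3
      show s (t _) = t (s _)
      rw [h2, h3, map_smul, map_smul, h2, h3, smul_comm]
    rintro _ (⟨i, rfl⟩ | ⟨i, rfl⟩)
    · exact key (i, true)
    · exact key (i, false)
  show (KInstSp.model m F).φ _ * (KInstSp.model m F).φ _ = _
  rw [← map_mul, ← map_mul]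
  congr 1
  exact Subtype.ext h1

/-- **`PSp_{2m}(F)`, `F` of characteristic two, `m ≥ 3`** -/
theorem adj_PSp {F : Type*} [Field F] [Finite F] [CharP F 2] {m : ℕ} (hm : 3 ≤ m) :
    ∃ l : ℕ, l.Prime ∧ l ≠ 2 ∧ H671.H5.Adj 2 l (PSp m F) := by
  have : Fintype F := Fintype.ofFinite F
  have : Fact (Nat.Prime 2) := ⟨Nat.prime_two⟩
  have : IsSimpleGroup (PSp m F) := S0270.result m (by omega) (fun h => by omega)
  have hfin : Finite (PSp m F) := inferInstance
  have hF := KFacts.RgdFiltClass.hasFilt_PSp (F := F) (m := m) (by omega) (p := 2)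
  have hloc := H400.LieLocal.locChar_of_filt hF
  have hnc := not_comm_of_filt hF
  have hW := finite_W (CoxeterMatrix.B m).toCoxeterSystem
  have hG : GG (CoxeterMatrix.B m).toCoxeterSystem (isCartan m) (WittModel.T (KInstSp.model m F))
      (WittModel.X (KInstSp.model m F)) = ⊤ := by
    rw [eq_top_iff, ← WittModel.G1_eq_top (KInstSp.model m F) (by omega) (CoxeterMatrix.B m).toCoxeterSystem]
    exact le_sup_right
  let a : Fin m := ⟨m - 2, by omega⟩
  let b : Fin m := ⟨m - 1, by omega⟩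
  let c : Fin m := ⟨m - 3, by omega⟩
  have hca : c ≠ a := by intro e; have := congrArg Fin.val e; simp only [c, a] at this; omega
  have hab : a ≠ b := by intro e; have := congrArg Fin.val e; simp only [b, a] at this; omega
  have hcb : c ≠ b := by intro e; have := congrArg Fin.val e; simp only [b, c] at this; omega
  refine adj_of_rgd (rgdC_model (KInstSp.model m F) (AmbT.of_amb amb_Sp 2) (p0 := SpIdent.adm 1) one_ne_zero
    (CoxeterMatrix.B m).toCoxeterSystem) hG hnc (T_comm m F) hloc (a := c) (b := a) (c := b) ?_ ?_ ?_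
  · rw [KindBC.B_apply_ne hca, if_neg, if_pos]
    · right
      show m - 3 + 1 = m - 2
      omega
    · rintro (⟨h1, -⟩ | ⟨h1, -⟩)
      · have h2 : m - 3 = m - 1 := h1
        omega
      · have h2 : m - 2 = m - 1 := h1
        omega
  · rw [KindBC.B_apply_ne hab, if_pos]
    exact Or.inr ⟨rfl, rfl⟩
  · rw [KindBC.B_apply_ne hcb, if_neg, if_neg]
    · rintro (h1 | h1)
      · have h2 : m - 1 + 1 = m - 3 := h1
        omega
      · have h2 : m - 3 + 1 = m - 1 := h1
        omega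
    · rintro (⟨h1, -⟩ | ⟨-, h1⟩)
      · have h2 : m - 3 = m - 1 := h1
        omega
      · have h2 : m - 3 = m - 2 := h1
        omega

end Sp

section F4

open Cfsg.Agent.Nodes Cfsg.Agent.Nodes.RGDChev

/-- **`F₄(F)`, `F` of characteristic two** -/
theorem adj_F4 {F : Type*} [Field F] [Finite F] [CharP F 2] :
    ∃ l : ℕ, l.Prime ∧ l ≠ 2 ∧ H671.H5.Adj 2 l ↥(Lie.chevF4.group F) := by
  have hp : IsType Lie.chevF4 4 CoxeterMatrix.F₄ := by simp [IsType, typeList]
  have : Fintype F := Fintype.ofFinite F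
  have : Fact (Nat.Prime 2) := ⟨Nat.prime_two⟩
  have : IsSimpleGroup ↥(Lie.chevF4.group F) := (S1054.result Lie.chevF4 (by simp)).1
  have hfin : Finite ↥(Lie.chevF4.group F) := inferInstance
  have hF := KFacts.RgdFiltChev.hasFilt_F4 F 2
  have hloc := H400.LieLocal.locChar_of_filt hF
  have hnc := not_comm_of_filt hF
  have hW := finite_W hp CoxeterMatrix.F₄.toCoxeterSystem
  have R := rgd (K := F) hp CoxeterMatrix.F₄.toCoxeterSystem 2
  have hG : GG CoxeterMatrix.F₄.toCoxeterSystem hp.isCartan ((Lie.chevF4.diagonalSubgroup F).subgroupOf (Lie.chevF4.group F))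
      (fun x => (XV Lie.chevF4 4 F x).subgroupOf (Lie.chevF4.group F)) = ⊤ := by
    rw [eq_top_iff, ← G1_eq_top hp CoxeterMatrix.F₄.toCoxeterSystem]
    exact le_sup_right
  refine adj_of_rgd R hG hnc ?_ hloc (a := 0) (b := 1) (c := 2) (by decide) (by decide) (by decide)
  intro s hs t ht
  exact Subtype.ext (OddHalf.Small.ChevCent.diag_comm hp.inList (Subgroup.mem_subgroupOf.1 hs)
    (Subgroup.mem_subgroupOf.1 ht))

end F4

end Cfsg.Agent.H996.Deg.Two
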